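import Groth.Agent.KInjRes.Derived

/-!
Derivability at K-injective complexes for functors out of complexes or the homotopy category.
-/

universe w v u v' u'

open CategoryTheory Limits

namespace Groth.Agent.KInjRes

variable {A : Type u} [Category.{v} A] [Abelian A] [HasDerivedCategory.{w} A]
  {H : Type u'} [Category.{v'} H]

open DerivedCategory in
theorem derivableAt_Qh (F : HomotopyCategory A (ComplexShape.up ℤ) ⥤ H) (I : CochainComplex A ℤ)
    [I.IsKInjective] : DerivableAt Qh F ((HomotopyCategory.quotient A (ComplexShape.up ℤ)).obj I) where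
  surj Y φ := (CochainComplex.IsKInjective.Qh_map_bijective Y I).surjective φ
  inj Y a b h := congrArg F.map ((CochainComplex.IsKInjective.Qh_map_bijective Y I).injective h)

/-- `Q` is surjective and detects homotopy on maps into K-injective complexes -/
theorem Q_map_kInjective (K I : CochainComplex A ℤ) [I.IsKInjective] :
    (∀ φ : DerivedCategory.Q.obj K ⟶ DerivedCategory.Q.obj I, ∃ a : K ⟶ I, DerivedCategory.Q.map a = φ) ∧
    ∀ a b : K ⟶ I, DerivedCategory.Q.map a = DerivedCategory.Q.map b → Nonempty (Homotopy a b) := by
  let q := HomotopyCategory.quotient A (ComplexShape.up ℤ)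
  let e := DerivedCategory.quotientCompQhIso A
  have hb := CochainComplex.IsKInjective.Qh_map_bijective (q.obj K) I
  refine ⟨fun φ => ?_, fun a b h => ⟨HomotopyCategory.homotopyOfEq _ _ (hb.injective ?_)⟩⟩
  · obtain ⟨g, hg⟩ := hb.surjective ((e.hom.app K) ≫ φ ≫ e.inv.app I)
    obtain ⟨a, rfl⟩ := q.map_surjective g
    refine ⟨a, ?_⟩
    have := e.hom.naturality a
    change DerivedCategory.Qh.map (q.map a) ≫ e.hom.app I = e.hom.app K ≫ DerivedCategory.Q.map a at this
    rw [← cancel_epi (e.hom.app K), ← this, hg, Category.assoc, Category.assoc, Iso.inv_hom_id_app]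
    exact congrArg _ (Category.comp_id φ)
  · have na := e.hom.naturality a
    have nb := e.hom.naturality b
    rw [h] at na
    exact (cancel_mono (e.hom.app I)).1 (na.trans nb.symm)

theorem derivableAt_Q (F : CochainComplex A ℤ ⥤ H)
    (hF : ∀ {K L : CochainComplex A ℤ} (a b : K ⟶ L), Homotopy a b → F.map a = F.map b)
    (I : CochainComplex A ℤ) [I.IsKInjective] : DerivableAt DerivedCategory.Q F I where
  surj Y φ := (Q_map_kInjective Y I).1 φ
  inj Y a b h := hF a b ((Q_map_kInjective Y I).2 a b h).some

variable (hres : ∀ K : CochainComplex A ℤ, ∃ (I : CochainComplex A ℤ) (f : K ⟶ I), I.IsKInjective ∧ QuasiIso f)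

include hres in
theorem exists_kInjective_iso (Y : DerivedCategory A) :
    ∃ I : CochainComplex A ℤ, I.IsKInjective ∧ Nonempty (DerivedCategory.Q.obj I ≅ Y) := by
  obtain ⟨I, f, hI, hf⟩ := hres (DerivedCategory.Q.objPreimage Y)
  haveI := hf
  haveI : IsIso (DerivedCategory.Q.map f) := inferInstance
  exact ⟨I, hI, ⟨(asIso (DerivedCategory.Q.map f)).symm ≪≫ DerivedCategory.Q.objObjPreimageIso Y⟩⟩

include hres in
theorem exists_derivable_Qh (F : HomotopyCategory A (ComplexShape.up ℤ) ⥤ H) (Y : DerivedCategory A) :
    ∃ X, DerivableAt DerivedCategory.Qh F X ∧ Nonempty (DerivedCategory.Qh.obj X ≅ Y) := by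
  obtain ⟨I, hI, ⟨e⟩⟩ := exists_kInjective_iso hres Y
  exact ⟨_, derivableAt_Qh F I, ⟨(DerivedCategory.quotientCompQhIso A).app I ≪≫ e⟩⟩

include hres in
theorem exists_derivable_Q (F : CochainComplex A ℤ ⥤ H)
    (hF : ∀ {K L : CochainComplex A ℤ} (a b : K ⟶ L), Homotopy a b → F.map a = F.map b) (Y : DerivedCategory A) :
    ∃ X, DerivableAt DerivedCategory.Q F X ∧ Nonempty (DerivedCategory.Q.obj X ≅ Y) := by
  obtain ⟨I, hI, e⟩ := exists_kInjective_iso hres Y
  exact ⟨I, derivableAt_Q F hF I, e⟩

end Groth.Agent.KInjRes

namespace Groth.Agent.KInjRes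

variable {A : Type u} [Category.{v} A] [Abelian A] {B : Type u'} [Category.{v'} B] [Abelian B]
  {F : A ⥤ B} {G : B ⥤ A} [F.Additive] [G.Additive]

/-- the termwise adjunction on complexes -/
noncomputable def mapHCAdj (adj : F ⊣ G) {ι : Type*} (c : ComplexShape ι) :
    F.mapHomologicalComplex c ⊣ G.mapHomologicalComplex c where
  unit :=
    { app := fun K =>
        { f := fun i => adj.unit.app (K.X i)
          comm' := fun i j _ => (adj.unit.naturality (K.d i j)).symm }
      naturality := fun K L f => by ext i; exact adj.unit.naturality (f.f i) }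
  counit :=
    { app := fun K =>
        { f := fun i => adj.counit.app (K.X i)
          comm' := fun i j _ => (adj.counit.naturality (K.d i j)).symm }
      naturality := fun K L f => by ext i; exact adj.counit.naturality (f.f i) }
  left_triangle_components K := by ext i; exact adj.left_triangle_components (K.X i)
  right_triangle_components K := by ext i; exact adj.right_triangle_components (K.X i)

/-- the adjunction on homotopy categories -/
noncomputable def mapKAdj (adj : F ⊣ G) {ι : Type*} (c : ComplexShape ι) :
    F.mapHomotopyCategory c ⊣ G.mapHomotopyCategory c where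
  unit :=
    { app := fun X => (HomotopyCategory.quotient A c).map ((mapHCAdj adj c).unit.app X.as)
      naturality := fun X Y f => by
        obtain ⟨f, rfl⟩ := (HomotopyCategory.quotient A c).map_surjective (X := X.as) (Y := Y.as) f
        exact (((HomotopyCategory.quotient A c).map_comp _ _).symm.trans
          (congrArg (HomotopyCategory.quotient A c).map ((mapHCAdj adj c).unit.naturality f))).trans
          ((HomotopyCategory.quotient A c).map_comp _ _) }
  counit :=
    { app := fun X => (HomotopyCategory.quotient B c).map ((mapHCAdj adj c).counit.app X.as)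
      naturality := fun X Y f => by
        obtain ⟨f, rfl⟩ := (HomotopyCategory.quotient B c).map_surjective (X := X.as) (Y := Y.as) f
        exact (((HomotopyCategory.quotient B c).map_comp _ _).symm.trans
          (congrArg (HomotopyCategory.quotient B c).map ((mapHCAdj adj c).counit.naturality f))).trans
          ((HomotopyCategory.quotient B c).map_comp _ _) }
  left_triangle_components X :=
    (((HomotopyCategory.quotient B c).map_comp _ _).symm.trans
      (congrArg (HomotopyCategory.quotient B c).map ((mapHCAdj adj c).left_triangle_components X.as))).trans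
      ((HomotopyCategory.quotient B c).map_id _)
  right_triangle_components X :=
    (((HomotopyCategory.quotient A c).map_comp _ _).symm.trans
      (congrArg (HomotopyCategory.quotient A c).map ((mapHCAdj adj c).right_triangle_components X.as))).trans
      ((HomotopyCategory.quotient A c).map_id _)

end Groth.Agent.KInjRes
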