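import Groth.Agent.KInjRes.Hull

/-!
K-injective resolutions of unbounded complexes in Grothendieck abelian categories.
-/

universe v u

open CategoryTheory Limits HomologicalComplex
open CochainComplex.HomComplex ZeroObject

namespace Groth.Agent.KInjRes

variable {A : Type u} [Category.{v} A] [Abelian A] [IsGrothendieckAbelian.{v} A]

variable (A) in
/-- labels of the small acyclic complexes -/
abbrev SmallIdx : Type _ :=
  {K : Subobject (∐ fun _ : bound A => gen A) // (cokernel K.arrow).Acyclic}

variable (A) in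
/-- index type of the generating trivial cofibrations -/
abbrev GenIdx : Type _ := (ℤ × Subobject (separator A)) ⊕ SmallIdx A

/-- sources of the generating trivial cofibrations -/
noncomputable def genSrc : GenIdx A → CochainComplex A ℤ
  | Sum.inl r => disc r.1 (r.2 : A)
  | Sum.inr K => cokernel K.1.arrow

/-- targets of the generating trivial cofibrations -/
noncomputable def genTgt : GenIdx A → CochainComplex A ℤ
  | Sum.inl r => disc r.1 (separator A)
  | Sum.inr K => CochainComplex.mappingCone (𝟙 (cokernel K.1.arrow))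

/-- the generating trivial cofibrations -/
noncomputable def genMap : ∀ i : GenIdx A, genSrc i ⟶ genTgt i
  | Sum.inl r => discMap r.1 r.2.arrow
  | Sum.inr K => CochainComplex.mappingCone.inr (𝟙 (cokernel K.1.arrow))

variable (A) in
/-- the generating trivial cofibrations -/
def genTriv : MorphismProperty (CochainComplex A ℤ) := MorphismProperty.ofHoms (genMap (A := A))

theorem quasiIso_of_acyclic {X Y : CochainComplex A ℤ} (f : X ⟶ Y) (hX : X.Acyclic) (hY : Y.Acyclic) :
    QuasiIso f := by
  rw [quasiIso_iff]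
  intro i
  rw [quasiIsoAt_iff_isIso_homologyMap]
  exact ⟨⟨0, ((exactAt_iff_isZero_homology _ _).1 (hX i)).eq_of_src _ _,
    ((exactAt_iff_isZero_homology _ _).1 (hY i)).eq_of_src _ _⟩⟩

theorem acyclic_cone_id (X : CochainComplex A ℤ) : (CochainComplex.mappingCone (𝟙 X)).Acyclic := by
  intro i
  rw [exactAt_iff_isZero_homology, IsZero.iff_id_eq_zero, ← homologyMap_id,
    (CochainComplex.mappingCone.homotopyToZeroOfId X).homologyMap_eq, homologyMap_zero]

instance mono_inr {X Y : CochainComplex A ℤ} (f : X ⟶ Y) : Mono (CochainComplex.mappingCone.inr f) := by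
  haveI : ∀ i, Mono ((CochainComplex.mappingCone.inr f).f i) := fun i =>
    mono_of_mono_fac (CochainComplex.mappingCone.inr_f_snd_v f i)
  exact HomologicalComplex.mono_of_mono_f _ this

theorem genTriv_le : genTriv A ≤ monoQis A := by
  rintro X Y f ⟨i⟩
  match i with
  | Sum.inl r => exact ⟨inferInstanceAs (Mono (discMap r.1 r.2.arrow)),
      quasiIso_of_acyclic _ (acyclic_disc _ _) (acyclic_disc _ _)⟩
  | Sum.inr K => exact ⟨inferInstanceAs (Mono (CochainComplex.mappingCone.inr _)),
      quasiIso_of_acyclic _ K.2 (acyclic_cone_id _)⟩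

instance : MorphismProperty.IsSmall.{v} (genTriv A) := MorphismProperty.isSmall_ofHoms _

open MorphismProperty in
instance : HasSmallObjectArgument.{v} (genTriv A) := by
  obtain ⟨κ, hκ', hκ⟩ := HasCardinalLT.exists_regular_cardinal.{v} (Σ i : GenIdx A, Subobject (genSrc i))
  have : Fact κ.IsRegular := ⟨hκ'⟩
  have : Nonempty κ.ord.ToType := by simpa using hκ'.ne_zero
  have := WellFoundedLT.toOrderBot κ.ord.ToType
  exact ⟨κ, inferInstance, inferInstance,
    { preservesColimit {S T X Y} i hi f hf := by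
        let hf' : (monomorphisms (CochainComplex A ℤ)).TransfiniteCompositionOfShape κ.ord.ToType f :=
          { toTransfiniteCompositionOfShape := hf.toTransfiniteCompositionOfShape
            map_mem j hj := by
              have := (hf.attachCells j hj).pushouts_coproducts
              simp only [ofHoms_homFamily] at this
              refine (?_ : _ ≤ monomorphisms _) _ this
              simp only [pushouts_le_iff, coproducts_le_iff]
              exact genTriv_le.trans inf_le_left }
        have (j j' : κ.ord.ToType) (φ : j ⟶ j') : Mono (hf'.F.map φ) := hf'.mem_map φ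
        apply IsGrothendieckAbelian.preservesColimit_coyoneda_obj_of_mono (Y := hf'.F) (κ := κ)
        obtain ⟨k⟩ := hi
        exact hκ.of_injective (fun s => (⟨k, s⟩ : Σ i : GenIdx A, Subobject (genSrc i)))
          (fun s t h => eq_of_heq (Sigma.mk.inj_iff.1 h).2) }⟩

instance : (monoQis A).IsStableUnderRetracts where
  of_retract h hf := ⟨MorphismProperty.of_retract (P := MorphismProperty.monomorphisms _) h hf.1,
    MorphismProperty.of_retract (P := HomologicalComplex.quasiIso A (ComplexShape.up ℤ)) h hf.2⟩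

theorem llp_rlp_genTriv_le : (genTriv A).rlp.llp ≤ monoQis A := by
  rw [MorphismProperty.llp_rlp_of_hasSmallObjectArgument]
  refine (MorphismProperty.retracts_monotone (MorphismProperty.transfiniteCompositions_monotone
    (MorphismProperty.pushouts_monotone (MorphismProperty.coproducts_monotone genTriv_le)))).trans ?_
  simp

/-- every complex has a monic quasi-isomorphism to a complex with the right lifting property against
the generating trivial cofibrations -/
theorem exists_fibrant (M : CochainComplex A ℤ) : ∃ (I : CochainComplex A ℤ) (f : M ⟶ I),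
    monoQis A f ∧ ∀ (i : GenIdx A) (g : genSrc i ⟶ I), ∃ e, genMap i ≫ e = g := by
  let F := (MorphismProperty.functorialFactorizationData (genTriv A).rlp.llp (genTriv A).rlp).factorizationData
    (0 : M ⟶ 0)
  refine ⟨F.Z, F.i, llp_rlp_genTriv_le _ F.hi, fun i g => ?_⟩
  haveI := F.hp (genMap i) ⟨i⟩
  have sq : CommSq g (genMap i) F.p 0 := ⟨(isZero_zero _).eq_of_tgt _ _⟩
  exact ⟨sq.lift, sq.fac_left⟩

variable {I : CochainComplex A ℤ}

/-- fibrant complexes are degreewise injective -/
theorem injective_of_fibrant (hI : ∀ (i : GenIdx A) (g : genSrc i ⟶ I), ∃ e, genMap i ≫ e = g) (n : ℤ) :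
    Injective (I.X n) := by
  rw [injective_iff_rlp_monomorphisms_zero, ← IsGrothendieckAbelian.generatingMonomorphisms_rlp
    (isSeparator_separator A)]
  rintro S T a ⟨s⟩
  refine ⟨fun {t b} sq => ?_⟩
  obtain ⟨e, he⟩ := hI (Sum.inl (n, s)) (discHom t)
  obtain ⟨g, rfl⟩ : ∃ g, discHom g = (e : disc n (separator A) ⟶ I) :=
    ⟨_, Equiv.symm_apply_apply _ _⟩
  have h' : discHom (s.arrow ≫ g) = (discHom t : disc n (s : A) ⟶ I) := (discMap_discHom _ g).symm.trans he
  exact ⟨⟨{ l := g
            fac_left := (Equiv.injective _ h' : s.arrow ≫ g = t)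
            fac_right := (isZero_zero A).eq_of_tgt _ _ }⟩⟩

/-- small acyclic complexes have no non-trivial maps to fibrant complexes, up to homotopy -/
theorem exists_cochain_of_small (hI : ∀ (i : GenIdx A) (g : genSrc i ⟶ I), ∃ e, genMap i ≫ e = g)
    {M : CochainComplex A ℤ} (hM : IsGen (bound A) M) (hac : M.Acyclic) (g : M ⟶ I) :
    ∃ k : Cochain M I (-1), δ (-1) 0 k = Cochain.ofHom g := by
  obtain ⟨p, hp⟩ := hM
  let K := kernelSubobject p
  have hw : K.arrow ≫ p = 0 := kernelSubobject_arrow_comp p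
  let e₀ : cokernel K.arrow ⟶ M := cokernel.desc _ p hw
  haveI : IsIso e₀ := by
    have hc : IsColimit (CokernelCofork.ofπ p hw) := by
      refine Abelian.epiIsCokernelOfKernel (KernelFork.ofι K.arrow hw) ?_
      exact IsLimit.ofIsoLimit (kernelIsKernel p)
        (Fork.ext (kernelSubobjectIso p).symm (kernelSubobject_arrow' p))
    exact ((cokernelIsCokernel K.arrow).coconePointUniqueUpToIso hc).isIso_hom
  let Ki : SmallIdx A := ⟨K, fun i => (hac i).of_iso (asIso e₀).symm⟩
  obtain ⟨e, he⟩ := hI (Sum.inr Ki) (e₀ ≫ g)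
  change CochainComplex.mappingCone.inr (𝟙 (cokernel K.arrow)) ≫ e = e₀ ≫ g at he
  have H : Homotopy g 0 :=
    (Homotopy.ofEq (show g = inv e₀ ≫ (CochainComplex.mappingCone.inr (𝟙 (cokernel K.arrow)) ≫
        𝟙 _) ≫ e by rw [Category.comp_id, he, IsIso.inv_hom_id_assoc])).trans
      ((((((CochainComplex.mappingCone.homotopyToZeroOfId (cokernel K.arrow)).compLeft
        (CochainComplex.mappingCone.inr (𝟙 (cokernel K.arrow)))).trans
          (Homotopy.ofEq comp_zero)).compRight e).trans (Homotopy.ofEq zero_comp)).compLeft (inv e₀) |>.trans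
            (Homotopy.ofEq comp_zero))
  obtain ⟨k, hk⟩ := Cochain.equivHomotopy g 0 H
  exact ⟨k, by rw [hk]; simp⟩

section Zorn

variable {N : CochainComplex A ℤ}

/-- partial null-homotopies of `f` on acyclic subcomplexes -/
structure PartialHtpy (f : N ⟶ I) where
  L : Subobject N
  ac : (L : CochainComplex A ℤ).Acyclic
  h : Cochain (L : CochainComplex A ℤ) I (-1)
  hh : δ (-1) 0 h = Cochain.ofHom (L.arrow ≫ f)

/-- extension order -/
def PartialHtpy.Ext {f : N ⟶ I} (a b : PartialHtpy f) : Prop :=
  ∃ h : a.L ≤ b.L, (Cochain.ofHom (Subobject.ofLE _ _ h)).comp b.h (zero_add _) = a.h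

theorem PartialHtpy.Ext.refl {f : N ⟶ I} (a : PartialHtpy f) : a.Ext a :=
  ⟨le_rfl, by rw [Subobject.ofLE_refl, Cochain.id_comp]⟩

theorem PartialHtpy.Ext.trans {f : N ⟶ I} {a b c : PartialHtpy f} (hab : a.Ext b) (hbc : b.Ext c) : a.Ext c := by
  obtain ⟨h, e⟩ := hab
  obtain ⟨h', e'⟩ := hbc
  refine ⟨h.trans h', ?_⟩
  rw [← Subobject.ofLE_comp_ofLE _ _ _ h h', Cochain.ofHom_comp, Cochain.comp_assoc_of_first_is_zero_cochain, e', e]

instance (f : N ⟶ I) : Std.Refl (PartialHtpy.Ext (f := f)) := ⟨PartialHtpy.Ext.refl⟩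

/-- every nonempty chain is bounded -/
theorem PartialHtpy.exists_ub (f : N ⟶ I) (c : Set (PartialHtpy f)) (hc : IsChain PartialHtpy.Ext c)
    (hne : c.Nonempty) : ∃ ub, ∀ a ∈ c, PartialHtpy.Ext a ub := by
  classical
  have hinj : Function.Injective (fun a : c => a.1.L) := by
    rintro ⟨a, ha⟩ ⟨b, hb⟩ (hL : a.L = b.L)
    refine Subtype.ext ?_
    rcases hc.total ha hb with hr | hr
    all_goals
      obtain ⟨La, aca, ha', hha⟩ := a
      obtain ⟨Lb, acb, hb', hhb⟩ := b
      cases hL
      obtain ⟨h, e⟩ := hr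
      rw [Subobject.ofLE_refl, Cochain.id_comp] at e
      simp only [PartialHtpy.mk.injEq, heq_eq_eq, true_and]
    · exact e.symm
    · exact e
  haveI : Small.{v} c := small_of_injective hinj
  let J := Shrink.{v} c
  let el : J → PartialHtpy f := fun j => ((equivShrink _).symm j).1
  letI : Preorder J :=
    { le := fun i j => (el i).Ext (el j)
      le_refl := fun i => PartialHtpy.Ext.refl _
      le_trans := fun i j k => PartialHtpy.Ext.trans }
  haveI : Nonempty J := let ⟨a, ha⟩ := hne; ⟨equivShrink _ ⟨a, ha⟩⟩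
  haveI : IsDirected J (· ≤ ·) := ⟨fun i j => by
    rcases hc.total ((equivShrink _).symm i).2 ((equivShrink _).symm j).2 with h | h
    · exact ⟨j, h, PartialHtpy.Ext.refl _⟩
    · exact ⟨i, PartialHtpy.Ext.refl _, h⟩⟩
  haveI : CategoryTheory.IsConnected J := IsFiltered.isConnected J
  let D : J ⥤ Subobject N := Monotone.functor (f := fun j => (el j).L) fun i j h => h.1
  let F : J ⥤ CochainComplex A ℤ := D ⋙ Subobject.underlying
  have hF : ∀ {i j : J} (h : i ⟶ j), F.map h = Subobject.ofLE _ _ (leOfHom h).1 := fun h => rfl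
  let C := colimit.cocone F
  have hC : IsColimit C := colimit.isColimit F
  let ι : C.pt ⟶ N := colimit.desc F
    { pt := N
      ι := { app := fun j => (el j).L.arrow
             naturality := fun i j h => (Subobject.ofLE_arrow (leOfHom h).1).trans (Category.comp_id _).symm } }
  have hι : ∀ j, C.ι.app j ≫ ι = (el j).L.arrow := fun j => colimit.ι_desc _ j
  haveI : Mono ι := by
    let α : F ⟶ (Functor.const J).obj N :=
      { app := fun j => (el j).L.arrow
        naturality := fun i j h => (Subobject.ofLE_arrow (leOfHom h).1).trans (Category.comp_id _).symm }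
    haveI : ∀ j, Mono (α.app j) := fun j => inferInstanceAs (Mono (el j).L.arrow)
    haveI := NatTrans.mono_of_mono_app α
    exact colim.map_mono' α hC (isColimitConstCocone J N) ι
      (fun j => (hι j).trans (Category.comp_id _).symm)
  have hCac : C.pt.Acyclic := by
    let z : (Functor.const J).obj (0 : CochainComplex A ℤ) ⟶ F :=
      { app := fun j => 0, naturality := fun i j h => (isZero_zero _).eq_of_src _ _ }
    have hz : ∀ j, QuasiIso (z.app j) := fun j =>
      quasiIso_of_acyclic _ (fun k => (exactAt_iff_isZero_homology _ _).2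
        ((homologyFunctor A (ComplexShape.up ℤ) k).map_isZero (isZero_zero _))) (el j).ac
    haveI hqi : QuasiIso (0 : (0 : CochainComplex A ℤ) ⟶ C.pt) := quasiIso_colim J (isColimitConstCocone J (0 : CochainComplex A ℤ)) hC z hz (0 : 0 ⟶ C.pt)
      (fun j => (isZero_zero _).eq_of_src _ _)
    intro k
    rw [exactAt_iff_isZero_homology]
    haveI : IsIso (homologyMap (0 : (0 : CochainComplex A ℤ) ⟶ C.pt) k) :=
      (quasiIsoAt_iff_isIso_homologyMap _ k).1 (hqi.quasiIsoAt k)
    exact ((homologyFunctor A (ComplexShape.up ℤ) k).map_isZero (isZero_zero _)).of_iso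
      (asIso (homologyMap (0 : (0 : CochainComplex A ℤ) ⟶ C.pt) k)).symm
  let hp := fun p => isColimitOfPreserves (eval A (ComplexShape.up ℤ) p) hC
  let hv : Cochain C.pt I (-1) := Cochain.mk fun p q hpq => (hp p).desc
    { pt := I.X q
      ι := { app := fun j => (el j).h.v p q hpq
             naturality := fun i j h => by
              refine Eq.trans ?_ (Category.comp_id _).symm
              have := Cochain.congr_v (leOfHom h).2 p q hpq
              rw [Cochain.zero_cochain_comp_v, Cochain.ofHom_v] at this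
              exact this } }
  have hvj : ∀ j, (Cochain.ofHom (C.ι.app j)).comp hv (zero_add _) = (el j).h := by
    intro j
    ext p q hpq
    rw [Cochain.zero_cochain_comp_v, Cochain.ofHom_v]
    exact (hp p).fac _ j
  have hhv : δ (-1) 0 hv = Cochain.ofHom (ι ≫ f) := by
    ext p
    refine (hp p).hom_ext fun j => ?_
    have h1 : δ (-1) 0 ((Cochain.ofHom (C.ι.app j)).comp hv (zero_add (-1))) =
        Cochain.ofHom (C.ι.app j ≫ ι ≫ f) :=
      (congrArg (δ (-1) 0) (hvj j)).trans ((el j).hh.trans
        (congrArg Cochain.ofHom ((congrArg (· ≫ f) (hι j).symm).trans (Category.assoc _ _ _))))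
    rw [δ_ofHom_comp, Cochain.ofHom_comp] at h1
    have h2 := Cochain.congr_v h1 p p (add_zero p)
    rw [Cochain.zero_cochain_comp_v, Cochain.zero_cochain_comp_v, Cochain.ofHom_v] at h2
    exact h2
  let e := Subobject.underlyingIso ι
  refine ⟨⟨Subobject.mk ι, fun k => (hCac k).of_iso e.symm,
    (Cochain.ofHom e.hom).comp hv (zero_add _), ?_⟩, fun a ha => ?_⟩
  · rw [δ_ofHom_comp, hhv, ← Cochain.ofHom_comp, ← Category.assoc, Subobject.underlyingIso_hom_comp_eq_mk]
  · obtain ⟨j, rfl⟩ : ∃ j, el j = a := ⟨equivShrink _ ⟨a, ha⟩, by simp [el]⟩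
    refine ⟨Subobject.le_mk_of_comm (C.ι.app j) (hι j), ?_⟩
    rw [← hvj j]
    show (Cochain.ofHom (Subobject.ofLE _ _ _)).comp ((Cochain.ofHom e.hom).comp hv (zero_add (-1))) (zero_add (-1)) = _
    rw [← Cochain.comp_assoc_of_first_is_zero_cochain, ← Cochain.ofHom_comp]
    congr 2
    rw [← cancel_mono ι, Category.assoc, Subobject.underlyingIso_hom_comp_eq_mk, Subobject.ofLE_arrow]
    exact (hι j).symm

/-- fibrant complexes are K-injective -/
theorem isKInjective_of_fibrant (hI : ∀ (i : GenIdx A) (g : genSrc i ⟶ I), ∃ e, genMap i ≫ e = g) :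
    I.IsKInjective := by
  refine ⟨fun {N} f hN => ?_⟩
  haveI : Nonempty (PartialHtpy f) :=
    ⟨⟨⊥, fun k => (exactAt_iff_isZero_homology _ _).2
      ((homologyFunctor A (ComplexShape.up ℤ) k).map_isZero ((isZero_zero _).of_iso Subobject.botCoeIsoZero)),
      0, by rw [δ_zero, Subobject.bot_arrow, zero_comp, Cochain.ofHom_zero]⟩⟩
  obtain ⟨m, hm⟩ := exists_maximal_of_nonempty_chains_bounded
    (fun c hc hne => PartialHtpy.exists_ub f c hc hne) (fun hab hbc => PartialHtpy.Ext.trans hab hbc)
  by_cases htop : IsIso m.L.arrow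
  · refine ⟨(Cochain.equivHomotopy f 0).symm ⟨(Cochain.ofHom (inv m.L.arrow)).comp m.h (zero_add _), ?_⟩⟩
    rw [δ_ofHom_comp, m.hh, Cochain.ofHom_zero, add_zero, ← Cochain.ofHom_comp, IsIso.inv_hom_id_assoc]
  exfalso
  let π := cokernel.π m.L.arrow
  let S := ShortComplex.mk m.L.arrow π (cokernel.condition _)
  have hS : S.ShortExact := { exact := S.exact_of_g_is_cokernel (cokernelIsCokernel _) }
  have hQ : (cokernel m.L.arrow).Acyclic := (quasiIso_iff_acyclic_cokernel _).1 (quasiIso_of_acyclic _ m.ac hN)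
  have hQ0 : ¬ IsZero (cokernel m.L.arrow) := fun h0 => htop (by
    haveI : Epi m.L.arrow := Abelian.epi_of_cokernel_π_eq_zero _ (h0.eq_of_tgt _ _)
    exact isIso_of_mono_of_epi _)
  obtain ⟨M, j, hj, hMac, hMgen, hj0⟩ := exists_small_acyclic_sub hQ hQ0
  let P := pullback π j
  let u : P ⟶ N := pullback.fst π j
  let w : P ⟶ M := pullback.snd π j
  let a : (m.L : CochainComplex A ℤ) ⟶ P :=
    pullback.lift m.L.arrow 0 (by rw [zero_comp]; exact cokernel.condition _)
  have hau : a ≫ u = m.L.arrow := pullback.lift_fst _ _ _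
  have haw : a ≫ w = 0 := pullback.lift_snd _ _ _
  haveI : Mono a := mono_of_mono_fac hau
  haveI : Mono u := inferInstanceAs (Mono (pullback.fst π j))
  haveI : Epi w := inferInstanceAs (Epi (pullback.snd π j))
  let S' := ShortComplex.mk a w haw
  have hS' : S'.ShortExact :=
    { exact := by
        rw [ShortComplex.exact_iff_exact_up_to_refinements]
        intro B x hx
        have hx' : (x ≫ u) ≫ π = 0 := by
          rw [Category.assoc, show u ≫ π = w ≫ j from pullback.condition]
          exact (reassoc_of% hx) j |>.trans zero_comp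
        refine ⟨B, 𝟙 _, inferInstance, hS.exact.lift (x ≫ u) hx', ?_⟩
        rw [Category.id_comp, ← cancel_mono u, Category.assoc]
        exact ((congrArg (_ ≫ ·) hau).trans (hS.exact.lift_f _ _)).symm }
  have hPac : P.Acyclic := hS'.acyclic_X₂ m.ac hMac
  haveI := injective_of_fibrant hI
  haveI : ∀ p, Mono (a.f p) := fun p => inferInstance
  let h0 : Cochain P I (-1) := Cochain.mk fun p q hpq => Injective.factorThru (m.h.v p q hpq) (a.f p)
  have hah0 : (Cochain.ofHom a).comp h0 (zero_add _) = m.h := by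
    ext p q hpq
    rw [Cochain.zero_cochain_comp_v, Cochain.ofHom_v]
    exact Injective.comp_factorThru _ _
  let φ : P ⟶ I := Cocycle.homOf (Cocycle.mk (δ (-1) 0 h0) 1 (zero_add 1) (δ_δ _ _ _ h0))
  have hφ : Cochain.ofHom φ = δ (-1) 0 h0 := Cocycle.cochain_ofHom_homOf_eq_coe _
  have hag : a ≫ (u ≫ f - φ) = 0 := by
    rw [Preadditive.comp_sub, sub_eq_zero, reassoc_of% hau]
    apply Cochain.ofHom_injective
    rw [Cochain.ofHom_comp a φ, hφ, ← δ_ofHom_comp, hah0, m.hh]
  have hcok := hS'.gIsCokernel
  obtain ⟨g₀, hg₀⟩ : ∃ g₀ : M ⟶ I, w ≫ g₀ = u ≫ f - φ :=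
    ⟨hcok.desc (CokernelCofork.ofπ _ hag), Cofork.IsColimit.π_desc hcok⟩
  obtain ⟨k, hk⟩ := exists_cochain_of_small hI hMgen hMac g₀
  let h' := h0 + (Cochain.ofHom w).comp k (zero_add _)
  have hh' : δ (-1) 0 h' = Cochain.ofHom (u ≫ f) := by
    rw [δ_add, δ_ofHom_comp, hk, ← Cochain.ofHom_comp, hg₀, ← hφ, ← Cochain.ofHom_add, add_sub_cancel]
  have hah' : (Cochain.ofHom a).comp h' (zero_add _) = m.h := by
    rw [Cochain.comp_add, hah0, ← Cochain.comp_assoc_of_first_is_zero_cochain, ← Cochain.ofHom_comp, haw,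
      Cochain.ofHom_zero, Cochain.zero_comp, add_zero]
  let e := Subobject.underlyingIso u
  let m' : PartialHtpy f := ⟨Subobject.mk u, fun i => (hPac i).of_iso e.symm,
    (Cochain.ofHom e.hom).comp h' (zero_add _),
    by rw [δ_ofHom_comp, hh', ← Cochain.ofHom_comp, ← Category.assoc, Subobject.underlyingIso_hom_comp_eq_mk]⟩
  have hmm' : m.Ext m' := by
    refine ⟨Subobject.le_mk_of_comm a hau, ?_⟩
    show (Cochain.ofHom (Subobject.ofLE _ _ _)).comp ((Cochain.ofHom e.hom).comp h' (zero_add (-1))) (zero_add (-1)) = _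
    rw [← Cochain.comp_assoc_of_first_is_zero_cochain, ← Cochain.ofHom_comp, ← hah']
    congr 2
    rw [← cancel_mono u, Category.assoc, hau, Subobject.underlyingIso_hom_comp_eq_mk, Subobject.ofLE_arrow]
  obtain ⟨hle, -⟩ := hm m' hmm'
  apply hj0
  rw [← cancel_epi w, comp_zero, ← show u ≫ π = w ≫ j from pullback.condition,
    ← Subobject.underlyingIso_arrow u, Category.assoc, ← Subobject.ofLE_arrow hle, Category.assoc,
    show m.L.arrow ≫ π = 0 from cokernel.condition _, comp_zero, comp_zero]

/-- **K-injective resolutions** -/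
theorem exists_kInjective_resolution (M : CochainComplex A ℤ) : ∃ (I : CochainComplex A ℤ) (f : M ⟶ I),
    I.IsKInjective ∧ QuasiIso f ∧ (∀ n, Mono (f.f n)) ∧ ∀ n, Injective (I.X n) := by
  obtain ⟨I, f, ⟨hm, hq⟩, hI⟩ := exists_fibrant M
  haveI : Mono f := hm
  exact ⟨I, f, isKInjective_of_fibrant hI, hq, fun n => inferInstance, injective_of_fibrant hI⟩

end Zorn

end Groth.Agent.KInjRes
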