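import Mathlib

/-!
Monic quasi-isomorphisms of cochain complexes in a Grothendieck abelian category are stable
under cobase change, coproducts and transfinite composition.
-/

universe v u

open CategoryTheory Limits HomologicalComplex

namespace Groth.Agent.KInjRes

variable {A : Type u} [Category.{v} A] [Abelian A]

/-- for a monomorphism of complexes: quasi-isomorphism iff acyclic cokernel -/
theorem quasiIso_iff_acyclic_cokernel {X Y : CochainComplex A ℤ} (f : X ⟶ Y) [Mono f] :
    QuasiIso f ↔ (cokernel f).Acyclic := by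
  let S := ShortComplex.mk f (cokernel.π f) (cokernel.condition f)
  have hS : S.ShortExact :=
    { exact := S.exact_of_g_is_cokernel (cokernelIsCokernel f) }
  constructor
  · intro h
    exact hS.acyclic_X₃ h
  · intro h
    rw [quasiIso_iff]
    intro i
    rw [quasiIsoAt_iff_isIso_homologyMap]
    have hz : ∀ j, IsZero ((cokernel f).homology j) := fun j =>
      (exactAt_iff_isZero_homology _ _).1 (h j)
    haveI : Mono (homologyMap f i) :=
      (hS.homology_exact₁ (i - 1) i (by simp)).mono_g ((hz (i - 1)).eq_of_src _ _)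
    haveI : Epi (homologyMap f i) :=
      (hS.homology_exact₂ i).epi_f ((hz i).eq_of_tgt _ _)
    exact isIso_of_mono_of_epi _

/-- monic quasi-isomorphisms -/
def monoQis (A : Type u) [Category.{v} A] [Abelian A] : MorphismProperty (CochainComplex A ℤ) :=
  MorphismProperty.monomorphisms _ ⊓ HomologicalComplex.quasiIso A (ComplexShape.up ℤ)

theorem monoQis_iff {X Y : CochainComplex A ℤ} (f : X ⟶ Y) :
    monoQis A f ↔ Mono f ∧ QuasiIso f := Iff.rfl

instance : (monoQis A).IsMultiplicative where
  id_mem X := ⟨inferInstanceAs (Mono (𝟙 X)), inferInstanceAs (QuasiIso (𝟙 X))⟩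
  comp_mem f g hf hg := by
    haveI : Mono f := hf.1
    haveI : Mono g := hg.1
    haveI : QuasiIso f := hf.2
    haveI : QuasiIso g := hg.2
    exact ⟨inferInstanceAs (Mono (f ≫ g)), inferInstanceAs (QuasiIso (f ≫ g))⟩

instance : (monoQis A).RespectsIso :=
  MorphismProperty.respectsIso_of_isStableUnderComposition fun X Y f (hf : IsIso f) =>
    ⟨inferInstanceAs (Mono f), inferInstanceAs (QuasiIso f)⟩

instance : (monoQis A).IsStableUnderCobaseChange where
  of_isPushout {A₁ A₂ B₁ B₂ f g f' g'} sq h := by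
    haveI : Mono f := h.1
    haveI : QuasiIso f := h.2
    haveI : Mono (pushout.inl g f) := inferInstance
    haveI : Mono f' := by
      rw [← sq.inl_isoPushout_inv]
      infer_instance
    refine ⟨this, (quasiIso_iff_acyclic_cokernel f').2 fun j => ?_⟩
    haveI := isIso_cokernel_map_of_isPushout sq.flip
    exact ((quasiIso_iff_acyclic_cokernel f).1 h.2 j).of_iso (asIso (cokernel.map _ _ _ _ sq.flip.w))

section colim

variable (J : Type*) [Category J]

variable {J} in
/-- the short complex of functors in degree `i` of a diagram of complexes -/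
def diagSC (X : J ⥤ CochainComplex A ℤ) (i : ℤ) : ShortComplex (J ⥤ A) :=
  ShortComplex.mk (X₁ := X ⋙ eval A (ComplexShape.up ℤ) (i - 1)) (X₂ := X ⋙ eval A (ComplexShape.up ℤ) i)
    (X₃ := X ⋙ eval A (ComplexShape.up ℤ) (i + 1))
    ({ app := fun j => (X.obj j).d (i - 1) i, naturality := fun a b g => ((X.map g).comm _ _) } :
      NatTrans (X ⋙ eval A (ComplexShape.up ℤ) (i - 1)) (X ⋙ eval A (ComplexShape.up ℤ) i))
    ({ app := fun j => (X.obj j).d i (i + 1), naturality := fun a b g => ((X.map g).comm _ _) } :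
      NatTrans (X ⋙ eval A (ComplexShape.up ℤ) i) (X ⋙ eval A (ComplexShape.up ℤ) (i + 1)))
    (by ext j; exact (X.obj j).d_comp_d _ _ _)

variable [HasColimitsOfShape J A] [HasExactColimitsOfShape J A]

/-- quasi-isomorphisms are stable under colimits of shapes with exact colimits -/
theorem quasiIso_colim {X₁ X₂ : J ⥤ CochainComplex A ℤ} {c₁ : Cocone X₁} {c₂ : Cocone X₂}
    (h₁ : IsColimit c₁) (h₂ : IsColimit c₂) (f : X₁ ⟶ X₂) (hf : ∀ j, QuasiIso (f.app j))
    (φ : c₁.pt ⟶ c₂.pt) (hφ : ∀ j, c₁.ι.app j ≫ φ = f.app j ≫ c₂.ι.app j) : QuasiIso φ := by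
  rw [quasiIso_iff]
  intro i
  rw [quasiIsoAt_iff' φ (i - 1) i (i + 1) (by simp) (by simp)]
  let S : (J ⥤ CochainComplex A ℤ) → ShortComplex (J ⥤ A) := fun X => diagSC X i
  let ψ : S X₁ ⟶ S X₂ :=
    { τ₁ := Functor.whiskerRight f (eval A (ComplexShape.up ℤ) (i - 1))
      τ₂ := Functor.whiskerRight f (eval A (ComplexShape.up ℤ) i)
      τ₃ := Functor.whiskerRight f (eval A (ComplexShape.up ℤ) (i + 1))
      comm₁₂ := by ext j; exact (f.app j).comm _ _
      comm₂₃ := by ext j; exact (f.app j).comm _ _ }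
  haveI hψ : ShortComplex.QuasiIso ψ := by
    rw [ShortComplex.quasiIso_iff]
    haveI : ∀ j, IsIso ((ShortComplex.homologyMap ψ).app j) := fun j => by
      let E := (evaluation J A).obj j
      haveI : QuasiIsoAt (f.app j) i := (hf j).quasiIsoAt i
      haveI h' : ShortComplex.QuasiIso (E.mapShortComplex.map ψ) :=
        (quasiIsoAt_iff' (f.app j) (i - 1) i (i + 1) (by simp) (by simp)).1 inferInstance
      have hnat := ShortComplex.mapHomologyIso_hom_naturality ψ E
      rw [show (ShortComplex.homologyMap ψ).app j = E.map (ShortComplex.homologyMap ψ) from rfl]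
      have h2 := (ShortComplex.quasiIso_iff _).1 h'
      have h3 : IsIso (ShortComplex.homologyMap (E.mapShortComplex.map ψ) ≫ ((S X₂).mapHomologyIso E).hom) :=
        @IsIso.comp_isIso _ _ _ _ _ _ _ h2 inferInstance
      replace h3 : IsIso (((S X₁).mapHomologyIso E).hom ≫ E.map (ShortComplex.homologyMap ψ)) := hnat ▸ h3
      exact IsIso.of_isIso_comp_left ((S X₁).mapHomologyIso E).hom _
    exact NatIso.isIso_of_isIso_app _
  have hmap : ShortComplex.QuasiIso ((colim : (J ⥤ A) ⥤ A).mapShortComplex.map ψ) :=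
    ShortComplex.quasiIso_map_of_preservesLeftHomology _ _
  let e : ∀ {X : J ⥤ CochainComplex A ℤ} {c : Cocone X}, IsColimit c → ∀ n,
      colimit (X ⋙ eval _ _ n) ≅ c.pt.X n := fun hc n =>
    (colimit.isColimit _).coconePointUniqueUpToIso (isColimitOfPreserves (eval _ _ n) hc)
  have he : ∀ {X : J ⥤ CochainComplex A ℤ} {c : Cocone X} (hc : IsColimit c) (n : ℤ) (j : J),
      colimit.ι (X ⋙ eval _ _ n) j ≫ (e hc n).hom = (c.ι.app j).f n := fun hc n j =>
    (colimit.isColimit _).comp_coconePointUniqueUpToIso_hom (isColimitOfPreserves (eval _ _ n) hc) j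
  let E : ∀ {X : J ⥤ CochainComplex A ℤ} {c : Cocone X}, IsColimit c →
      ((colim : (J ⥤ A) ⥤ A).mapShortComplex.obj (S X) ≅ c.pt.sc' (i - 1) i (i + 1)) :=
    fun {X c} hc => ShortComplex.isoMk (e hc _) (e hc _) (e hc _)
      (colimit.hom_ext fun j => by
        show colimit.ι (X ⋙ eval A (ComplexShape.up ℤ) (i - 1)) j ≫ (e hc (i - 1)).hom ≫ c.pt.d (i - 1) i =
          colimit.ι (X ⋙ eval A (ComplexShape.up ℤ) (i - 1)) j ≫ colim.map (diagSC X i).f ≫ (e hc i).hom
        erw [reassoc_of% (he hc), ι_colimMap_assoc, (c.ι.app j).comm]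
        exact congrArg (_ ≫ ·) (he hc _ j).symm)
      (colimit.hom_ext fun j => by
        show colimit.ι (X ⋙ eval A (ComplexShape.up ℤ) i) j ≫ (e hc i).hom ≫ c.pt.d i (i + 1) =
          colimit.ι (X ⋙ eval A (ComplexShape.up ℤ) i) j ≫ colim.map (diagSC X i).g ≫ (e hc (i + 1)).hom
        erw [reassoc_of% (he hc), ι_colimMap_assoc, (c.ι.app j).comm]
        exact congrArg (_ ≫ ·) (he hc _ j).symm)
  have hk : ∀ n, colim.map (Functor.whiskerRight f (eval A (ComplexShape.up ℤ) n)) ≫ (e h₂ n).hom =
      (e h₁ n).hom ≫ φ.f n := fun n => colimit.hom_ext fun j => by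
    show colimit.ι _ j ≫ colimMap _ ≫ _ = _
    rw [ι_colimMap_assoc, reassoc_of% (he h₁), he h₂]
    exact (congrArg (fun k => k.f n) (hφ j)).symm
  have comm : (colim : (J ⥤ A) ⥤ A).mapShortComplex.map ψ ≫ (E h₂).hom =
      (E h₁).hom ≫ (shortComplexFunctor' A (ComplexShape.up ℤ) (i - 1) i (i + 1)).map φ := by
    ext <;> exact hk _
  have h3 : ShortComplex.QuasiIso ((E h₁).hom ≫
      (shortComplexFunctor' A (ComplexShape.up ℤ) (i - 1) i (i + 1)).map φ) := by
    rw [← comm]; infer_instance
  exact ShortComplex.quasiIso_of_comp_left (E h₁).hom _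

theorem monoQis_colimitsOfShape : (monoQis A).IsStableUnderColimitsOfShape J where
  condition X₁ X₂ c₁ c₂ h₁ h₂ f hf φ hφ :=
    ⟨MorphismProperty.IsStableUnderColimitsOfShape.condition (W := MorphismProperty.monomorphisms _)
      X₁ X₂ c₁ c₂ h₁ h₂ f (fun j => (hf j).1) φ hφ,
      quasiIso_colim J h₁ h₂ f (fun j => (hf j).2) φ hφ⟩

end colim

variable [IsGrothendieckAbelian.{v} A]

instance : MorphismProperty.IsStableUnderCoproducts.{v} (monoQis A) where
  isStableUnderCoproductsOfShape J := monoQis_colimitsOfShape (Discrete J)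

instance : MorphismProperty.IsStableUnderFilteredColimits.{v, v} (monoQis A) where
  isStableUnderColimitsOfShape J _ _ := monoQis_colimitsOfShape J

instance : MorphismProperty.IsStableUnderTransfiniteComposition.{v} (monoQis A) where
  isStableUnderTransfiniteCompositionOfShape J _ _ _ _ :=
    MorphismProperty.IsStableUnderTransfiniteCompositionOfShape.of_isStableUnderColimitsOfShape.{v}
      fun K _ _ _ _ => monoQis_colimitsOfShape K

end Groth.Agent.KInjRes
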