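import Groth.Agent.KInjRes.Basic
import Groth.Agent.KInjRes.DerivedCat
import Groth.Agent.S0480

/-!
Products and coproducts in the derived category of a Grothendieck abelian category.
-/

universe w v u

open CategoryTheory Limits DerivedCategory
open scoped ZeroObject

namespace Groth.Agent.KInjRes

variable {A : Type u} [Category.{v} A] [Abelian A] [IsGrothendieckAbelian.{v} A] [HasDerivedCategory.{w} A]

theorem isZero_Q_of_acyclic (X : CochainComplex A ℤ) (hX : X.Acyclic) : IsZero (Q.obj X) := by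
  haveI : QuasiIso (0 : X ⟶ 0) := quasiIso_of_acyclic _ hX
    (fun i => HomologicalComplex.exactAt_iff _ _ |>.2 (ShortComplex.exact_of_isZero_X₂ _
      ((HomologicalComplex.eval A (ComplexShape.up ℤ) i).map_isZero (isZero_zero _))))
  haveI : IsIso (Q.map (0 : X ⟶ 0)) := inferInstance
  exact IsZero.of_iso (Q.map_isZero (isZero_zero _)) (asIso (Q.map (0 : X ⟶ 0)))

theorem acyclic_sigma {T : Type v} (X : T → CochainComplex A ℤ) (h : ∀ t, (X t).Acyclic) : (∐ X).Acyclic := by
  have hz : IsZero (∐ fun _ : T => (0 : CochainComplex A ℤ)) :=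
    (IsZero.iff_id_eq_zero _).2 (Limits.Sigma.hom_ext _ _ fun t => (isZero_zero _).eq_of_src _ _)
  have hq : monoQis A (Limits.Sigma.map fun t => (0 : (0 : CochainComplex A ℤ) ⟶ X t)) :=
    MorphismProperty.colimMap _ fun ⟨j⟩ => ⟨IsZero.mono (isZero_zero _) _, quasiIso_of_acyclic _
      (fun i => HomologicalComplex.exactAt_iff _ _ |>.2 (ShortComplex.exact_of_isZero_X₂ _
        ((HomologicalComplex.eval A (ComplexShape.up ℤ) i).map_isZero (isZero_zero _)))) (h j)⟩
  haveI : QuasiIso (Limits.Sigma.map fun t => (0 : (0 : CochainComplex A ℤ) ⟶ X t)) := hq.2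
  intro i
  rw [← exactAt_iff_of_quasiIsoAt (Limits.Sigma.map fun t => (0 : (0 : CochainComplex A ℤ) ⟶ X t)) i,
    HomologicalComplex.exactAt_iff]
  exact ShortComplex.exact_of_isZero_X₂ _ ((HomologicalComplex.eval A (ComplexShape.up ℤ) i).map_isZero hz)

theorem hasProduct_derivedCategory {T : Type v} (Y : T → DerivedCategory A) : HasProduct Y := by
  choose I hI he using fun t => exists_kInjective_iso (fun K => by
    obtain ⟨I, f, h1, h2, -⟩ := exists_kInjective_resolution K
    exact ⟨I, f, h1, h2⟩) (Y t)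
  have e : ∀ t, Q.obj (I t) ≅ Y t := fun t => (he t).some
  haveI : (∏ᶜ I).IsKInjective := Groth.Agent.S0480.result I hI
  let c : Fan Y := Fan.mk (Q.obj (∏ᶜ I)) fun t => Q.map (Pi.π I t) ≫ (e t).hom
  have hex : ∀ s : Fan Y, ∃! m : s.pt ⟶ c.pt, ∀ t, m ≫ c.proj t = s.proj t := fun s => by
    let i := (Q.objObjPreimageIso s.pt)
    let K := Q.objPreimage s.pt
    choose a ha using fun t => (haveI := hI t
      (Q_map_kInjective K (I t)).1 (i.hom ≫ s.proj t ≫ (e t).inv))
    refine ⟨i.inv ≫ Q.map (Pi.lift a), fun t => ?_, fun m hm => ?_⟩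
    · show (i.inv ≫ Q.map (Pi.lift a)) ≫ Q.map (Pi.π I t) ≫ (e t).hom = s.proj t
      rw [Category.assoc, ← Q.map_comp_assoc, Pi.lift_π, ha]
      simp
    · obtain ⟨b, hb⟩ := (Q_map_kInjective K (∏ᶜ I)).1 (i.hom ≫ m)
      have h0 : ∀ t, ∃ g : CochainComplex.mappingCone (𝟙 K) ⟶ I t,
          CochainComplex.mappingCone.inr (𝟙 K) ≫ g = (b - Pi.lift a) ≫ Pi.π I t := fun t => by
        haveI := hI t
        have h1 : Q.map ((b - Pi.lift a) ≫ Pi.π I t) = Q.map (0 : K ⟶ I t) := by
          have h2 : (i.hom ≫ m) ≫ Q.map (Pi.π I t) = i.hom ≫ s.proj t ≫ (e t).inv := by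
            rw [← hm t]
            simp only [c, fan_mk_proj, Category.assoc, Iso.hom_inv_id, Category.comp_id]
          rw [Preadditive.sub_comp, Functor.map_sub, Q.map_comp, hb, h2, Pi.lift_π, ha, sub_self, Functor.map_zero]
        obtain ⟨H⟩ := (Q_map_kInjective K (I t)).2 _ _ h1
        exact ⟨CochainComplex.mappingCone.desc (𝟙 K) (CochainComplex.HomComplex.Cochain.ofHomotopy H)
          ((b - Pi.lift a) ≫ Pi.π I t) (by simp), CochainComplex.mappingCone.inr_desc _ _ _ _⟩
      choose g hg using h0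
      have h3 : b - Pi.lift a = CochainComplex.mappingCone.inr (𝟙 K) ≫ Pi.lift g :=
        Pi.hom_ext _ _ fun t => by simp [hg]
      have h4 : Q.map (b - Pi.lift a) = 0 := by
        rw [h3, Q.map_comp, (isZero_Q_of_acyclic _ (acyclic_cone_id K)).eq_of_tgt (Q.map (CochainComplex.mappingCone.inr (𝟙 K))) 0,
          zero_comp]
      rw [Functor.map_sub, sub_eq_zero] at h4
      rw [← h4, hb, Iso.inv_hom_id_assoc]
  exact HasLimit.mk ⟨c, mkFanLimit c (fun s => (hex s).exists.choose) (fun s t => (hex s).exists.choose_spec t)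
    (fun s m hm => (hex s).unique hm (hex s).exists.choose_spec)⟩

theorem hasCoproduct_derivedCategory {T : Type v} (Y : T → DerivedCategory A) : HasCoproduct Y := by
  let X : T → CochainComplex A ℤ := fun t => Q.objPreimage (Y t)
  let e : ∀ t, Q.obj (X t) ≅ Y t := fun t => Q.objObjPreimageIso (Y t)
  let c : Cofan Y := Cofan.mk (Q.obj (∐ X)) fun t => (e t).inv ≫ Q.map (Limits.Sigma.ι X t)
  have hex : ∀ s : Cofan Y, ∃! m : c.pt ⟶ s.pt, ∀ t, c.inj t ≫ m = s.inj t := fun s => by
    obtain ⟨I, hI, ⟨i⟩⟩ := exists_kInjective_iso (fun K => by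
      obtain ⟨I, f, h1, h2, -⟩ := exists_kInjective_resolution K
      exact ⟨I, f, h1, h2⟩) s.pt
    choose a ha using fun t => (Q_map_kInjective (X t) I).1 ((e t).hom ≫ s.inj t ≫ i.inv)
    refine ⟨Q.map (Limits.Sigma.desc a) ≫ i.hom, fun t => ?_, fun m hm => ?_⟩
    · show ((e t).inv ≫ Q.map (Limits.Sigma.ι X t)) ≫ Q.map (Limits.Sigma.desc a) ≫ i.hom = s.inj t
      rw [Category.assoc, ← Q.map_comp_assoc, Limits.Sigma.ι_desc, ha]
      simp
    · obtain ⟨b, hb⟩ := (Q_map_kInjective (∐ X) I).1 (m ≫ i.inv)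
      have h0 : ∀ t, ∃ g : CochainComplex.mappingCone (𝟙 (X t)) ⟶ I,
          CochainComplex.mappingCone.inr (𝟙 (X t)) ≫ g = Limits.Sigma.ι X t ≫ (b - Limits.Sigma.desc a) := fun t => by
        have h1 : Q.map (Limits.Sigma.ι X t ≫ (b - Limits.Sigma.desc a)) = Q.map (0 : X t ⟶ I) := by
          have h2 : Q.map (Limits.Sigma.ι X t) ≫ m ≫ i.inv = (e t).hom ≫ s.inj t ≫ i.inv := by
            rw [← hm t]
            simp only [c, cofan_mk_inj, Category.assoc, Iso.hom_inv_id_assoc]
          rw [Preadditive.comp_sub, Functor.map_sub, Q.map_comp, hb, h2, Limits.Sigma.ι_desc, ha, sub_self, Functor.map_zero]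
        obtain ⟨H⟩ := (Q_map_kInjective (X t) I).2 _ _ h1
        exact ⟨CochainComplex.mappingCone.desc (𝟙 (X t)) (CochainComplex.HomComplex.Cochain.ofHomotopy H)
          (Limits.Sigma.ι X t ≫ (b - Limits.Sigma.desc a)) (by simp), CochainComplex.mappingCone.inr_desc _ _ _ _⟩
      choose g hg using h0
      have h3 : b - Limits.Sigma.desc a =
          Limits.Sigma.map (fun t => CochainComplex.mappingCone.inr (𝟙 (X t))) ≫ Limits.Sigma.desc g :=
        Limits.Sigma.hom_ext _ _ fun t => by simp [hg]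
      have h4 : Q.map (b - Limits.Sigma.desc a) = 0 := by
        rw [h3, Q.map_comp, (isZero_Q_of_acyclic _ (acyclic_sigma _ fun t => acyclic_cone_id (X t))).eq_of_tgt
          (Q.map (Limits.Sigma.map fun t => CochainComplex.mappingCone.inr (𝟙 (X t)))) 0, zero_comp]
      rw [Functor.map_sub, sub_eq_zero] at h4
      rw [← h4, hb, Category.assoc, Iso.inv_hom_id, Category.comp_id]
  exact HasColimit.mk ⟨c, mkCofanColimit c (fun s => (hex s).exists.choose) (fun s t => (hex s).exists.choose_spec t)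
    (fun s m hm => (hex s).unique hm (hex s).exists.choose_spec)⟩

end Groth.Agent.KInjRes
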