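import Mathlib

/-!
Right derived functors computed on objects which are "local" for a localization functor, and the
resulting derived adjunction.
-/

universe v₁ v₂ v₃ v₄ v₅ u₁ u₂ u₃ u₄ u₅

open CategoryTheory Limits CategoryTheory.Functor

namespace Groth.Agent.KInjRes

variable {C : Type u₁} [Category.{v₁} C] {D : Type u₂} [Category.{v₂} D] {H : Type u₃} [Category.{v₃} H]
  (L : C ⥤ D)

/-- `F` can be derived at `I`: morphisms to `L I` lift to morphisms to `I`, uniquely after `F`. -/
structure DerivableAt (F : C ⥤ H) (I : C) : Prop where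
  surj : ∀ (Y : C) (φ : L.obj Y ⟶ L.obj I), ∃ a : Y ⟶ I, L.map a = φ
  inj : ∀ (Y : C) (a b : Y ⟶ I), L.map a = L.map b → F.map a = F.map b

variable {L} {F : C ⥤ H}

/-- an extension whose unit is invertible at `I` is pointwise at `L I` -/
noncomputable def isPointwiseAt (E : LeftExtension L F) (I : C)
    (hI : ∀ (Y : C) (φ : L.obj Y ⟶ L.obj I), ∃ a : Y ⟶ I, L.map a = φ)
    [hiso : IsIso (E.hom.app I)] : E.IsPointwiseLeftKanExtensionAt (L.obj I) where
  desc s := @CategoryTheory.inv _ _ _ _ (E.hom.app I) hiso ≫ s.ι.app (CostructuredArrow.mk (𝟙 (L.obj I)))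
  fac s j := by
    obtain ⟨a, ha⟩ := hI _ j.hom
    have h1 := s.w (CostructuredArrow.homMk (f' := CostructuredArrow.mk (𝟙 (L.obj I))) a
      (by simp [ha]) : j ⟶ CostructuredArrow.mk (𝟙 (L.obj I)))
    have h2 := E.hom.naturality a
    change F.map a ≫ E.hom.app I = E.hom.app j.left ≫ E.right.map (L.map a) at h2
    refine Eq.trans ?_ h1
    show (E.hom.app j.left ≫ E.right.map j.hom) ≫ CategoryTheory.inv (E.hom.app I) ≫
        s.ι.app (CostructuredArrow.mk (𝟙 (L.obj I))) = F.map a ≫ s.ι.app (CostructuredArrow.mk (𝟙 (L.obj I)))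
    rw [show E.right.map j.hom = E.right.map (L.map a) from congrArg _ ha.symm]
    refine (congrArg (· ≫ _) h2.symm).trans ((Category.assoc _ _ _).trans ?_)
    exact congrArg (F.map a ≫ ·) (IsIso.hom_inv_id_assoc _ _)
  uniq s m hm := by
    have h := hm (CostructuredArrow.mk (𝟙 (L.obj I)))
    dsimp [LeftExtension.coconeAt] at h ⊢
    rw [CategoryTheory.Functor.map_id, Category.comp_id] at h
    rw [← h]
    exact (IsIso.inv_hom_id_assoc (E.hom.app I) (I := hiso) m).symm

/-- the canonical colimit cocone at a derivable object -/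
theorem hasPointwiseAt {I : C} (h : DerivableAt L F I) : HasPointwiseLeftKanExtensionAt L F (L.obj I) := by
  choose a ha using fun j : CostructuredArrow L (L.obj I) => h.surj _ j.hom
  let c : Cocone (CostructuredArrow.proj L (L.obj I) ⋙ F) :=
    { pt := F.obj I
      ι := { app := fun j => F.map (a j)
             naturality := fun i j g => by
              refine Eq.trans ?_ (Category.comp_id _).symm
              show F.map g.left ≫ F.map (a j) = F.map (a i)
              rw [← F.map_comp]
              exact h.inj _ _ _ (by rw [L.map_comp, ha, ha]; exact CostructuredArrow.w g) } }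
  exact ⟨⟨c,
    { desc := fun s => s.ι.app (CostructuredArrow.mk (𝟙 (L.obj I)))
      fac := fun s j => s.w (CostructuredArrow.homMk (a j) (by simp [ha]) : j ⟶ CostructuredArrow.mk (𝟙 (L.obj I)))
      uniq := fun s m hm => by
        have h1 := hm (CostructuredArrow.mk (𝟙 (L.obj I)))
        have h2 : F.map (a (CostructuredArrow.mk (𝟙 (L.obj I)))) = 𝟙 (F.obj I) := by
          rw [← F.map_id]
          exact h.inj _ _ _ ((ha _).trans (L.map_id I).symm)
        rw [← h1]
        exact ((congrArg (· ≫ m) h2).trans (Category.id_comp m)).symm }⟩⟩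

/-- a pointwise extension has invertible unit at derivable objects -/
theorem isIso_hom_app {E : LeftExtension L F} {I : C} (h : DerivableAt L F I)
    (hE : E.IsPointwiseLeftKanExtensionAt (L.obj I)) : IsIso (E.hom.app I) := by
  choose a ha using fun j : CostructuredArrow L (L.obj I) => h.surj _ j.hom
  let c : Cocone (CostructuredArrow.proj L (L.obj I) ⋙ F) :=
    { pt := F.obj I
      ι := { app := fun j => F.map (a j)
             naturality := fun i j g => by
              refine Eq.trans ?_ (Category.comp_id _).symm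
              show F.map g.left ≫ F.map (a j) = F.map (a i)
              rw [← F.map_comp]
              exact h.inj _ _ _ (by rw [L.map_comp, ha, ha]; exact CostructuredArrow.w g) } }
  have h2 : F.map (a (CostructuredArrow.mk (𝟙 (L.obj I)))) = 𝟙 (F.obj I) := by
    rw [← F.map_id]
    exact h.inj _ _ _ ((ha _).trans (L.map_id I).symm)
  have h1 := hE.fac c (CostructuredArrow.mk (𝟙 (L.obj I)))
  have e1 : E.hom.app I ≫ E.right.map (𝟙 (L.obj I)) = E.hom.app I := by
    rw [CategoryTheory.Functor.map_id]; exact Category.comp_id _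
  refine ⟨hE.desc c, (congrArg (· ≫ hE.desc c) e1).symm.trans (h1.trans h2), hE.hom_ext fun j => ?_⟩
  refine Eq.trans ?_ (Category.comp_id _).symm
  refine (Category.assoc _ _ _).symm.trans ((congrArg (· ≫ E.hom.app I) (hE.fac c j)).trans ?_)
  exact (E.hom.naturality (a j)).trans (congrArg (E.hom.app j.left ≫ ·) (congrArg E.right.map (ha j)))

variable {W : MorphismProperty C} [L.IsLocalization W]

theorem hasPointwiseRightDerived (hI : ∀ Y : D, ∃ I : C, DerivableAt L F I ∧ Nonempty (L.obj I ≅ Y)) :
    F.HasPointwiseRightDerivedFunctor W := by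
  intro X
  rw [F.hasPointwiseRightDerivedFunctorAt_iff L W]
  obtain ⟨I, h, ⟨e⟩⟩ := hI (L.obj X)
  rw [← hasPointwiseLeftKanExtensionAt_iff_of_iso L F e]
  exact hasPointwiseAt h

/-- the unit of a right derived functor is invertible at derivable objects -/
theorem isIso_app_of_derivable (hI : ∀ Y : D, ∃ I : C, DerivableAt L F I ∧ Nonempty (L.obj I ≅ Y))
    (RF : D ⥤ H) (α : F ⟶ L ⋙ RF) [RF.IsRightDerivedFunctor α W] {I : C} (h : DerivableAt L F I) :
    IsIso (α.app I) :=
  haveI := hasPointwiseRightDerived (W := W) hI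
  isIso_hom_app (E := LeftExtension.mk RF α) h
    (Functor.isPointwiseLeftKanExtensionOfHasPointwiseRightDerivedFunctor RF (α := α) W (L.obj I))

/-- criterion for being a right derived functor -/
theorem isRightDerived_of_isIso_app (RF : D ⥤ H) (α : F ⟶ L ⋙ RF)
    (hI : ∀ Y : D, ∃ I : C, (∀ (X : C) (φ : L.obj X ⟶ L.obj I), ∃ a : X ⟶ I, L.map a = φ) ∧
      IsIso (α.app I) ∧ Nonempty (L.obj I ≅ Y)) :
    RF.IsRightDerivedFunctor α W := by
  have hP : (LeftExtension.mk RF α).IsPointwiseLeftKanExtension := fun Y => by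
    choose I hs hiso e using hI
    haveI : IsIso ((LeftExtension.mk RF α).hom.app (I Y)) := hiso Y
    exact (LeftExtension.mk RF α).isPointwiseLeftKanExtensionAtEquivOfIso' (e Y).some
      (isPointwiseAt (LeftExtension.mk RF α) (I Y) (hs Y))
  exact ⟨hP.isLeftKanExtension⟩

section adjunction

variable {C' : Type u₄} [Category.{v₄} C'] {D' : Type u₅} [Category.{v₅} D']
  {G : C' ⥤ C} {P : C ⥤ C'} (adj : G ⊣ P) {L' : C' ⥤ D'} (W' : MorphismProperty C') [L'.IsLocalization W']

include adj W' in
/-- adjunction between the functor induced by an exact left adjoint and a right derived functor -/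
theorem nonempty_adjunction {G' : D' ⥤ D} (e : L' ⋙ G' ≅ G ⋙ L) {P' : D ⥤ D'} (β : P ⋙ L' ⟶ L ⋙ P')
    [P'.IsRightDerivedFunctor β W]
    (hI : ∀ Y : D, ∃ I : C, DerivableAt L (P ⋙ L') I ∧ Nonempty (L.obj I ≅ Y)) :
    Nonempty (G' ⊣ P') := by
  haveI : G'.IsLeftDerivedFunctor e.hom W' := Functor.isLeftDerivedFunctor_of_inverts W' G' e
  haveI : (G' ⋙ P').IsLeftDerivedFunctor ((Functor.associator _ _ _).inv ≫ whiskerRight e.hom P') W' :=
    Functor.isLeftDerivedFunctor_of_inverts W' (G' ⋙ P')
      ((Functor.associator _ _ _).symm ≪≫ isoWhiskerRight e P')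
  haveI : (P' ⋙ G').IsRightDerivedFunctor (whiskerRight β G' ≫ (Functor.associator _ _ _).hom) W := by
    refine isRightDerived_of_isIso_app _ _ fun Y => ?_
    obtain ⟨I, h, hiso⟩ := hI Y
    refine ⟨I, h.surj, ?_, hiso⟩
    haveI := isIso_app_of_derivable (W := W) hI P' β h
    simp only [NatTrans.comp_app, whiskerRight_app, Functor.associator_hom_app]
    infer_instance
  exact ⟨adj.derived W' W e.hom β⟩

include adj W' in
/-- ... whose counit is invertible when that of the original adjunction is -/
theorem exists_adjunction_isIso_counit {G' : D' ⥤ D} (e : L' ⋙ G' ≅ G ⋙ L) {P' : D ⥤ D'}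
    (β : P ⋙ L' ⟶ L ⋙ P') [P'.IsRightDerivedFunctor β W]
    (hI : ∀ Y : D, ∃ I : C, DerivableAt L (P ⋙ L') I ∧ Nonempty (L.obj I ≅ Y))
    (hc : ∀ I, IsIso (adj.counit.app I)) :
    ∃ a : G' ⊣ P', IsIso a.counit := by
  haveI : G'.IsLeftDerivedFunctor e.hom W' := Functor.isLeftDerivedFunctor_of_inverts W' G' e
  haveI : (G' ⋙ P').IsLeftDerivedFunctor ((Functor.associator _ _ _).inv ≫ whiskerRight e.hom P') W' :=
    Functor.isLeftDerivedFunctor_of_inverts W' (G' ⋙ P')
      ((Functor.associator _ _ _).symm ≪≫ isoWhiskerRight e P')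
  haveI : (P' ⋙ G').IsRightDerivedFunctor (whiskerRight β G' ≫ (Functor.associator _ _ _).hom) W := by
    refine isRightDerived_of_isIso_app _ _ fun Y => ?_
    obtain ⟨I, h, hiso⟩ := hI Y
    refine ⟨I, h.surj, ?_, hiso⟩
    haveI := isIso_app_of_derivable (W := W) hI P' β h
    simp only [NatTrans.comp_app, whiskerRight_app, Functor.associator_hom_app]
    infer_instance
  refine ⟨adj.derived W' W e.hom β, ?_⟩
  haveI : ∀ Y, IsIso ((adj.derived W' W e.hom β).counit.app Y) := fun Y => by
    obtain ⟨I, h, ⟨i⟩⟩ := hI Y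
    haveI := isIso_app_of_derivable (W := W) hI P' β h
    rw [← NatTrans.isIso_app_iff_of_iso _ i]
    haveI := hc I
    haveI : IsIso (G'.map (β.app I) ≫ (adj.derivedε W e.hom β).app (L.obj I)) := by
      rw [adj.derivedε_fac_app W e.hom β I]; infer_instance
    exact IsIso.of_isIso_comp_left (G'.map (β.app I)) ((adj.derivedε W e.hom β).app (L.obj I))
  exact NatIso.isIso_of_isIso_app _

end adjunction

end Groth.Agent.KInjRes
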