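import Groth.Agent.KInjRes.Stable

/-!
Every nonzero acyclic complex in a Grothendieck abelian category has a nonzero acyclic
subcomplex generated by a set of bounded size.
-/

universe v u

open CategoryTheory Limits HomologicalComplex

namespace Groth.Agent.KInjRes

variable {A : Type u} [Category.{v} A] [Abelian A]

theorem rel_succ (m : ℤ) : (ComplexShape.up ℤ).Rel m (m + 1) := rfl

theorem succ_ne (m : ℤ) : m ≠ m + 1 := by omega

/-- the disc complex `X --𝟙--> X` in degrees `m`, `m+1` -/
noncomputable abbrev disc (m : ℤ) (X : A) : CochainComplex A ℤ := double (𝟙 X) (rel_succ m)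

/-- morphisms out of a disc -/
noncomputable def discHom {m : ℤ} {X : A} {K : CochainComplex A ℤ} (g : X ⟶ K.X m) : disc m X ⟶ K :=
  ((evalCompCoyonedaCorepresentableByDoubleId (rel_succ m) (succ_ne m) X).homEquiv).symm g

theorem discHom_f {m : ℤ} {X : A} {K : CochainComplex A ℤ} (g : X ⟶ K.X m) :
    (doubleXIso₀ (𝟙 X) (rel_succ m)).inv ≫ (discHom g).f m = g :=
  ((evalCompCoyonedaCorepresentableByDoubleId (rel_succ m) (succ_ne m) X).homEquiv).apply_symm_apply g

theorem discHom_f_succ {m : ℤ} {X : A} {K : CochainComplex A ℤ} (g : X ⟶ K.X m) :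
    (doubleXIso₁ (𝟙 X) (rel_succ m) (succ_ne m)).inv ≫ (discHom g).f (m + 1) = g ≫ K.d m (m + 1) := by
  conv_rhs => rw [← discHom_f g, Category.assoc, (discHom g).comm, double_d _ _ (succ_ne m)]
  simp

theorem acyclic_disc (m : ℤ) (X : A) : (disc m X).Acyclic := by
  intro k
  rw [HomologicalComplex.exactAt_iff' _ (k - 1) k (k + 1) (by simp) (by simp)]
  by_cases h₀ : k = m
  · subst h₀
    haveI : Mono ((disc k X).sc' (k - 1) k (k + 1)).g := by
      show Mono ((disc k X).d k (k + 1))
      rw [double_d _ _ (succ_ne k)]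
      infer_instance
    exact (ShortComplex.exact_iff_mono _ (double_d_eq_zero₁ (𝟙 X) (rel_succ k) _ _ (succ_ne k))).2 this
  by_cases h₁ : k = m + 1
  · subst h₁
    haveI : Epi ((disc m X).sc' (m + 1 - 1) (m + 1) (m + 1 + 1)).f := by
      show Epi ((disc m X).d (m + 1 - 1) (m + 1))
      rw [add_sub_cancel_right, double_d _ _ (succ_ne m)]
      infer_instance
    exact (ShortComplex.exact_iff_epi _ (double_d_eq_zero₀ (𝟙 X) (rel_succ m) _ _ (succ_ne m).symm)).2 this
  · exact ShortComplex.exact_of_isZero_X₂ _ (isZero_double_X (𝟙 X) (rel_succ m) k h₀ h₁)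

/-- functoriality of discs -/
noncomputable def discMap (m : ℤ) {X Y : A} (a : X ⟶ Y) : disc m X ⟶ disc m Y :=
  discHom (a ≫ (doubleXIso₀ (𝟙 Y) (rel_succ m)).inv)

theorem discMap_discHom {m : ℤ} {X Y : A} (a : X ⟶ Y) {K : CochainComplex A ℤ} (g : Y ⟶ K.X m) :
    discMap m a ≫ discHom g = discHom (a ≫ g) := by
  apply ((evalCompCoyonedaCorepresentableByDoubleId (rel_succ m) (succ_ne m) X).homEquiv).injective
  show (doubleXIso₀ (𝟙 X) (rel_succ m)).inv ≫ ((discMap m a).f m ≫ (discHom g).f m) =
    (doubleXIso₀ (𝟙 X) (rel_succ m)).inv ≫ (discHom (a ≫ g)).f m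
  rw [discMap, reassoc_of% (discHom_f (a ≫ (doubleXIso₀ (𝟙 Y) (rel_succ m)).inv)), discHom_f, discHom_f]

instance (m : ℤ) {X Y : A} (a : X ⟶ Y) [Mono a] : Mono (discMap m a) := by
  haveI : ∀ k, Mono ((discMap m a).f k) := fun k => by
    by_cases h₀ : k = m
    · subst h₀
      have : (discMap k a).f k = (doubleXIso₀ (𝟙 X) (rel_succ k)).hom ≫ a ≫ (doubleXIso₀ (𝟙 Y) (rel_succ k)).inv := by
        rw [← Iso.inv_comp_eq]; exact discHom_f _
      rw [this]; infer_instance
    by_cases h₁ : k = m + 1
    · subst h₁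
      have : (discMap m a).f (m + 1) = (doubleXIso₁ (𝟙 X) (rel_succ m) (succ_ne m)).hom ≫ a ≫
          (doubleXIso₁ (𝟙 Y) (rel_succ m) (succ_ne m)).inv := by
        rw [← Iso.inv_comp_eq]
        exact (discHom_f_succ _).trans (by simp [double_d _ _ (succ_ne m)])
      rw [this]; infer_instance
    · exact ⟨fun _ _ _ => (isZero_double_X (𝟙 X) (rel_succ m) k h₀ h₁).eq_of_tgt _ _⟩
  exact HomologicalComplex.mono_of_mono_f (discMap m a) this

variable [IsGrothendieckAbelian.{v} A]

/-- a separator of the category of complexes -/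
noncomputable abbrev gen (A : Type u) [Category.{v} A] [Abelian A] [IsGrothendieckAbelian.{v} A] :
    CochainComplex A ℤ :=
  separator (CochainComplex A ℤ)

/-- `X` is a quotient of the coproduct of `T` copies of the separator -/
def IsGen (T : Type v) (X : CochainComplex A ℤ) : Prop :=
  ∃ p : (∐ fun _ : T => gen A) ⟶ X, Epi p

theorem epi_sigma_desc_hom {C : Type*} [Category C] {G : C} (hG : IsSeparator G) (X : C)
    [HasCoproduct fun _ : (G ⟶ X) => G] : Epi (Sigma.desc fun h : G ⟶ X => h) where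
  left_cancellation {Z} a b h := by
    refine hG.def _ _ fun k => ?_
    have := Sigma.ι (fun _ : (G ⟶ X) => G) k ≫= h
    simpa using this

theorem IsGen.of_family {T : Type v} {X : CochainComplex A ℤ} (g : T → (gen A ⟶ X)) (h : Epi (Sigma.desc g)) :
    IsGen T X := ⟨_, h⟩

variable (A) in
/-- the kernel labels used to select bounding chains for the cycles of a complex with `T` generators -/
abbrev Lab (T : Type v) : Type _ :=
  Σ n : ℤ, Subobject ((∐ fun _ : T => gen A).X (n + 1))

variable (A) in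
/-- the index type of one enlargement step -/
def Step (T : Type v) : Type v :=
  T ⊕ Shrink.{v} (Σ s : Lab A T, gen A ⟶ disc s.1 (separator A))

/-- sequential colimits are exact -/
theorem hasExactColimits_nat (B : Type u) [Category.{v} B] [Abelian B] [IsGrothendieckAbelian.{v} B] :
    ∃ _ : HasColimitsOfShape ℕ B, HasExactColimitsOfShape ℕ B :=
  ⟨hasColimitsOfShape_of_equivalence (AsSmall.equiv (C := ℕ)).symm,
    haveI := hasColimitsOfShape_of_equivalence (C := B) (AsSmall.equiv.{_, _, v} (C := ℕ)).symm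
    HasExactColimitsOfShape.of_domain_equivalence B (AsSmall.equiv.{_, _, v} (C := ℕ)).symm⟩

variable {N : CochainComplex A ℤ}

/-- One enlargement step: the cycles of `M` become boundaries, up to refinements, in `M'`. -/
theorem exists_step (hN : N.Acyclic) {T : Type v} (M : MonoOver N) (hM : IsGen T M.obj.left) :
    ∃ (M' : MonoOver N) (i : M ⟶ M'), IsGen (Step A T) M'.obj.left ∧
      ∀ n : ℤ, ∃ (E : A) (π : E ⟶ M.obj.left.cycles (n + 1)) (_ : Epi π) (x : E ⟶ M'.obj.left.X n),
        π ≫ M.obj.left.iCycles (n + 1) ≫ i.hom.left.f (n + 1) = x ≫ M'.obj.left.d n (n + 1) := by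
  classical
  obtain ⟨p, hp⟩ := hM
  let ι := M.obj.hom
  haveI : Mono ι := M.property
  let G₀ := separator A
  -- pairs (bounding chain, cycle) and their labels
  let Pr : ℤ → Type v := fun n =>
    {gz : (G₀ ⟶ N.X n) × (G₀ ⟶ M.obj.left.X (n + 1)) // gz.2 ≫ ι.f (n + 1) = gz.1 ≫ N.d n (n + 1)}
  let lab : ∀ n, Pr n → Subobject ((∐ fun _ : T => gen A).X (n + 1)) := fun n gz =>
    kernelSubobject (p.f (n + 1) ≫ cokernel.π gz.1.2)
  let chosen : ∀ s : Lab A T, G₀ ⟶ N.X s.1 := fun s =>
    if h : ∃ gz : Pr s.1, lab s.1 gz = s.2 then h.choose.1.1 else 0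
  let D : (Σ s : Lab A T, gen A ⟶ disc s.1 G₀) → (gen A ⟶ N) := fun sh => sh.2 ≫ discHom (chosen sh.1)
  let all : Step A T → (gen A ⟶ N) := Sum.elim
    (fun t => Sigma.ι (fun _ : T => gen A) t ≫ p ≫ ι) (fun r => D ((equivShrink _).symm r))
  let q := Sigma.desc all
  have hι : ∃ i : M.obj.left ⟶ Abelian.image q, i ≫ Abelian.image.ι q = ι := by
    have : ι ≫ cokernel.π q = 0 := by
      rw [← cancel_epi p]
      refine Sigma.hom_ext _ _ fun t => ?_
      rw [show Sigma.ι (fun _ : T => gen A) t ≫ p ≫ ι ≫ cokernel.π q =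
        (Sigma.ι (fun _ : Step A T => gen A) (Sum.inl t) ≫ q) ≫ cokernel.π q by simp [q, all]]
      simp
    exact ⟨kernel.lift _ ι this, kernel.lift_ι _ _ _⟩
  obtain ⟨i, hi⟩ := hι
  refine ⟨MonoOver.mk (Abelian.image.ι q), MonoOver.homMk i hi,
    ⟨Abelian.factorThruImage q, (inferInstance : Epi (Abelian.factorThruImage q))⟩, fun n => ?_⟩
  show ∃ (E : A) (π : E ⟶ M.obj.left.cycles (n + 1)) (_ : Epi π) (x : E ⟶ (Abelian.image q).X n),
    π ≫ M.obj.left.iCycles (n + 1) ≫ i.f (n + 1) = x ≫ (Abelian.image q).d n (n + 1)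
  -- lifts of the chosen chains
  have hx : ∀ s : Lab A T, ∃ x : G₀ ⟶ (Abelian.image q).X s.1, x ≫ (Abelian.image.ι q).f s.1 = chosen s := by
    intro s
    have hd : discHom (chosen s) ≫ cokernel.π q = 0 := by
      refine (isSeparator_separator (CochainComplex A ℤ)).def _ _ fun h => ?_
      have e1 : Sigma.ι (fun _ : Step A T => gen A) (Sum.inr (equivShrink _ ⟨s, h⟩)) ≫ q = h ≫ discHom (chosen s) := by
        refine (Sigma.ι_desc _ _).trans ?_
        show D ((equivShrink _).symm (equivShrink _ ⟨s, h⟩)) = _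
        rw [Equiv.symm_apply_apply]
      rw [← Category.assoc, ← e1, Category.assoc, cokernel.condition, comp_zero, comp_zero]
    refine ⟨(doubleXIso₀ (𝟙 G₀) (rel_succ s.1)).inv ≫ (kernel.lift _ (discHom (chosen s)) hd).f s.1, ?_⟩
    rw [Category.assoc]
    have e2 : kernel.lift _ (discHom (chosen s)) hd ≫ Abelian.image.ι q = discHom (chosen s) := kernel.lift_ι _ _ _
    have e3 := congrArg (fun φ => φ.f s.1) e2
    exact (congrArg (_ ≫ ·) e3).trans (discHom_f _)
  choose x hx using hx
  -- bounding chains in `N` for the cycles of `M`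
  let z := M.obj.left.iCycles (n + 1)
  have hz : (z ≫ ι.f (n + 1)) ≫ N.d (n + 1) (n + 1 + 1) = 0 := by
    rw [Category.assoc, ι.comm]; simp [z]
  have hex := (N.exactAt_iff' n (n + 1) (n + 1 + 1) (by simp) (by simp)).1 (hN (n + 1))
  obtain ⟨E, π, hπ, y, hy⟩ :=
    ((ShortComplex.exact_iff_exact_up_to_refinements _).1 hex) (z ≫ ι.f (n + 1)) hz
  have hh : ∀ h : G₀ ⟶ E, ∃ (E' : A) (e : E' ⟶ G₀) (_ : Epi e) (x' : E' ⟶ (Abelian.image q).X n),
      e ≫ h ≫ π ≫ z ≫ i.f (n + 1) = x' ≫ (Abelian.image q).d n (n + 1) := by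
    intro h
    let gz : Pr n := ⟨(h ≫ y, h ≫ π ≫ z), by
      simp only [Category.assoc]
      exact congrArg (h ≫ ·) hy⟩
    have hs : ∃ gz' : Pr n, lab n gz' = lab n gz := ⟨gz, rfl⟩
    let s : Lab A T := ⟨n, lab n gz⟩
    have hch : chosen s = hs.choose.1.1 := dif_pos hs
    let gz' := hs.choose
    -- equal labels: `z`-component factors through the chosen one up to refinement
    have hker : gz.1.2 ≫ cokernel.π gz'.1.2 = 0 := by
      obtain ⟨P, e, he, r, hr⟩ := surjective_up_to_refinements_of_epi (p.f (n + 1)) gz.1.2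
      have h0 : r ≫ p.f (n + 1) ≫ cokernel.π gz.1.2 = 0 := by
        rw [← reassoc_of% hr]; simp
      have h1 : (kernelSubobject (p.f (n + 1) ≫ cokernel.π gz'.1.2)).Factors r := by
        show (lab n gz').Factors r
        rw [hs.choose_spec]
        exact kernelSubobject_factors _ r h0
      have h2 : r ≫ p.f (n + 1) ≫ cokernel.π gz'.1.2 = 0 := by
        rw [← Subobject.factorThru_arrow _ r h1, Category.assoc, kernelSubobject_arrow_comp, comp_zero]
      rw [← cancel_epi e, comp_zero, ← h2, reassoc_of% hr]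
    let S := ShortComplex.mk gz'.1.2 (cokernel.π gz'.1.2) (cokernel.condition _)
    have hS : S.Exact := S.exact_of_g_is_cokernel (cokernelIsCokernel _)
    obtain ⟨E', e, he, w, hw⟩ := ((ShortComplex.exact_iff_exact_up_to_refinements _).1 hS) gz.1.2 hker
    refine ⟨E', e, he, w ≫ x s, ?_⟩
    haveI : Mono ((Abelian.image.ι q).f (n + 1)) := inferInstance
    rw [← cancel_mono ((Abelian.image.ι q).f (n + 1))]
    simp only [Category.assoc, ← HomologicalComplex.comp_f, hi]
    rw [← (Abelian.image.ι q).comm, reassoc_of% (hx s), hch]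
    rw [← hs.choose.2, ← Category.assoc w, ← hw]
    simp [gz]
  choose E' e he x' hx' using hh
  refine ⟨∐ E', Sigma.desc (fun h => e h ≫ h) ≫ π, ?_, Sigma.desc x', ?_⟩
  · haveI : Epi (Sigma.desc fun h : G₀ ⟶ E => h) := epi_sigma_desc_hom (isSeparator_separator A) E
    haveI : Epi (Sigma.desc (fun h => e h ≫ h)) := by
      constructor
      intro W a b hab
      rw [← cancel_epi (Sigma.desc fun h : G₀ ⟶ E => h)]
      refine Sigma.hom_ext _ _ fun h => ?_
      haveI := he h
      rw [← cancel_epi (e h)]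
      have := Sigma.ι E' h ≫= hab
      simpa using this
    exact epi_comp _ _
  · refine Sigma.hom_ext _ _ fun h => ?_
    simp only [Category.assoc, Sigma.ι_desc_assoc]
    exact hx' h

variable (A) in
/-- the iterated index types -/
def steps : ℕ → Type v
  | 0 => PUnit
  | k + 1 => Step A (steps k)

variable (A) in
/-- a bound on the number of generators of small acyclic complexes -/
def bound : Type v := Σ k, steps A k

/-- A nonzero acyclic complex has a nonzero acyclic subcomplex with boundedly many generators. -/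
theorem exists_small_acyclic_sub (hN : N.Acyclic) (hN0 : ¬ IsZero N) :
    ∃ (L : CochainComplex A ℤ) (j : L ⟶ N), Mono j ∧ L.Acyclic ∧ IsGen (bound A) L ∧ j ≠ 0 := by
  classical
  obtain ⟨g, hg⟩ : ∃ g : gen A ⟶ N, g ≠ 0 := by
    by_contra hc
    push Not at hc
    exact hN0 ((IsZero.iff_id_eq_zero N).2
      ((isSeparator_separator (CochainComplex A ℤ)).def _ _ fun h => by simp [hc h]))
  let Stage : ℕ → Type _ := fun k => {M : MonoOver N // IsGen (steps A k) M.obj.left}
  let M₀ : Stage 0 := ⟨MonoOver.mk (Abelian.image.ι (Sigma.desc fun _ : PUnit.{v + 1} => g)),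
    ⟨Abelian.factorThruImage (Sigma.desc fun _ : PUnit.{v + 1} => g),
      (inferInstance : Epi (Abelian.factorThruImage _))⟩⟩
  choose nxt inc hgen hbd using fun k (M : Stage k) => exists_step hN M.1 M.2
  let Ms : ∀ k, Stage k := fun k => Nat.rec M₀ (fun k M => ⟨nxt k M, hgen k M⟩) k
  let F : ℕ ⥤ MonoOver N := Functor.ofSequence (X := fun k => (Ms k).1) (fun k => inc k (Ms k))
  let F' : ℕ ⥤ CochainComplex A ℤ := F ⋙ MonoOver.forget _ ⋙ Over.forget _
  let j : colimit F' ⟶ N := colimit.desc F'
    { pt := N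
      ι := { app := fun k => (F.obj k).obj.hom
             naturality := fun a b f => (Over.w (F.map f).hom).trans (Category.comp_id _).symm } }
  have hj : ∀ k, colimit.ι F' k ≫ j = (F.obj k).obj.hom := fun k => colimit.ι_desc _ _
  obtain ⟨_, _⟩ := hasExactColimits_nat A
  haveI hjm : Mono j := by
    haveI : ∀ m, Mono (j.f m) := fun m => by
      let α : F' ⋙ eval A (ComplexShape.up ℤ) m ⟶ (Functor.const ℕ).obj (N.X m) :=
        { app := fun k => (F.obj k).obj.hom.f m
          naturality := fun a b f => by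
            refine Eq.trans ?_ (Category.comp_id _).symm
            exact (congrArg (fun φ => φ.f m) (Over.w (F.map f).hom)) }
      haveI : ∀ k, Mono (α.app k) := fun k => by
        haveI : Mono (F.obj k).obj.hom := (F.obj k).property
        exact inferInstanceAs (Mono ((F.obj k).obj.hom.f m))
      haveI := NatTrans.mono_of_mono_app α
      exact colim.map_mono' α (isColimitOfPreserves (eval A (ComplexShape.up ℤ) m) (colimit.isColimit F'))
        (isColimitConstCocone ℕ (N.X m)) (j.f m) (fun k => by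
          refine Eq.trans ?_ (Category.comp_id _).symm
          exact congrArg (fun φ => φ.f m) (hj k))
    exact HomologicalComplex.mono_of_mono_f j this
  have hF' : ∀ k, F'.map (homOfLE (Nat.le_add_right k 1)) = (inc k (Ms k)).hom.left := fun k => by
    simp only [F', F, Functor.comp_map, Functor.ofSequence_map_homOfLE_succ]
    rfl
  refine ⟨colimit F', j, hjm, fun m => ?_, ?_, ?_⟩
  · obtain ⟨n, rfl⟩ : ∃ n, m = n + 1 := ⟨m - 1, by ring⟩
    rw [(colimit F').exactAt_iff' n (n + 1) (n + 1 + 1) (by simp) (by simp),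
      ShortComplex.exact_iff_exact_up_to_refinements]
    intro B z hz
    change B ⟶ (colimit F').X (n + 1) at z
    change z ≫ (colimit F').d (n + 1) (n + 1 + 1) = 0 at hz
    let Z : ℕ ⥤ A := F' ⋙ cyclesFunctor A (ComplexShape.up ℤ) (n + 1)
    let Q : ShortComplex (ℕ ⥤ A) := ShortComplex.mk
      (X₁ := Z) (X₂ := F' ⋙ eval A (ComplexShape.up ℤ) (n + 1))
      (X₃ := F' ⋙ eval A (ComplexShape.up ℤ) (n + 1 + 1))
      ({ app := fun k => (F'.obj k).iCycles (n + 1)
         naturality := fun a b f => cyclesMap_i (F'.map f) (n + 1) } :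
        NatTrans Z (F' ⋙ eval A (ComplexShape.up ℤ) (n + 1)))
      ({ app := fun k => (F'.obj k).d (n + 1) (n + 1 + 1)
         naturality := fun a b f => (F'.map f).comm _ _ } :
        NatTrans (F' ⋙ eval A (ComplexShape.up ℤ) (n + 1)) (F' ⋙ eval A (ComplexShape.up ℤ) (n + 1 + 1)))
      (by ext k; exact (F'.obj k).iCycles_d _ _)
    have hQ : Q.Exact := by
      rw [ShortComplex.exact_iff_isZero_homology, Functor.isZero_iff]
      intro k
      have hk : (Q.map ((evaluation ℕ A).obj k)).Exact :=
        ShortComplex.exact_of_f_is_kernel _ ((F'.obj k).cyclesIsKernel (n + 1) (n + 1 + 1) (by simp))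
      exact (ShortComplex.exact_iff_isZero_homology _).1 hk |>.of_iso (Q.mapHomologyIso ((evaluation ℕ A).obj k)).symm
    let c : Cocone F' := colimit.cocone F'
    let hc2 := isColimitOfPreserves (eval A (ComplexShape.up ℤ) (n + 1)) (colimit.isColimit F')
    let hc3 := isColimitOfPreserves (eval A (ComplexShape.up ℤ) (n + 1 + 1)) (colimit.isColimit F')
    have hex := colim.exact_mapShortComplex hQ (colimit.isColimit Z) hc2 hc3
      (colimit.desc Z { pt := c.pt.X (n + 1)
                        ι := { app := fun k => (F'.obj k).iCycles (n + 1) ≫ (c.ι.app k).f (n + 1)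
                               naturality := fun a b f => by
                                simp only [Functor.const_obj_map, Category.comp_id]
                                show cyclesMap (F'.map f) (n + 1) ≫ _ = _
                                refine Eq.trans ?_ (Category.comp_id _).symm
                                refine (cyclesMap_i_assoc (F'.map f) (n + 1) _).trans ?_
                                exact congrArg (fun φ => (F'.obj a).iCycles (n + 1) ≫ φ.f (n + 1)) (c.w f) } })
      (c.pt.d (n + 1) (n + 1 + 1))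
      (fun k => colimit.ι_desc _ k) (fun k => (c.ι.app k).comm _ _)
    obtain ⟨B', π, hπ, y, hy⟩ := ((ShortComplex.exact_iff_exact_up_to_refinements _).1 hex) z hz
    change B' ⟶ colimit Z at y
    -- each stage bounds the cycles of the previous one
    have hbd' : ∀ k, ∃ (E : A) (e : E ⟶ Z.obj k) (_ : Epi e) (x : E ⟶ (F'.obj (k + 1)).X n),
        e ≫ (F'.obj k).iCycles (n + 1) ≫ (F'.map (homOfLE (Nat.le_add_right k 1))).f (n + 1) =
          x ≫ (F'.obj (k + 1)).d n (n + 1) := fun k => by
      rw [hF']; exact hbd k (Ms k) n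
    choose E e he x hx using hbd'
    let x' : ∀ k, E k ⟶ c.pt.X n := fun k => x k ≫ (c.ι.app (k + 1)).f n
    have hx' : ∀ k, e k ≫ (F'.obj k).iCycles (n + 1) ≫ (c.ι.app k).f (n + 1) = x' k ≫ c.pt.d n (n + 1) := by
      intro k
      have h1 : (c.ι.app k).f (n + 1) =
          (F'.map (homOfLE (Nat.le_add_right k 1))).f (n + 1) ≫ (c.ι.app (k + 1)).f (n + 1) :=
        (congrArg (fun φ => φ.f (n + 1)) (c.w (homOfLE (Nat.le_add_right k 1)))).symm
      have h2 := congrArg (· ≫ (c.ι.app (k + 1)).f (n + 1)) (hx k)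
      simp only [Category.assoc] at h2
      rw [h1, h2, show x' k = x k ≫ (c.ι.app (k + 1)).f n from rfl, Category.assoc]
      exact congrArg (x k ≫ ·) ((c.ι.app (k + 1)).comm _ _).symm
    let ε : (∐ E) ⟶ colimit Z := Sigma.desc fun k => e k ≫ colimit.ι Z k
    haveI : Epi ε := by
      constructor
      intro W a b hab
      refine colimit.hom_ext fun k => ?_
      haveI := he k
      rw [← cancel_epi (e k)]
      have := Sigma.ι E k ≫= hab
      simpa [ε] using this
    obtain ⟨B'', π', hπ', w, hw⟩ := surjective_up_to_refinements_of_epi ε y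
    refine ⟨B'', π' ≫ π, epi_comp _ _, w ≫ Sigma.desc x', ?_⟩
    show (π' ≫ π) ≫ z = (w ≫ Sigma.desc x') ≫ c.pt.d n (n + 1)
    refine (Category.assoc _ _ _).trans ((congrArg (π' ≫ ·) hy).trans ?_)
    refine (Category.assoc π' y _).symm.trans ?_
    rw [hw, Category.assoc, Category.assoc]
    refine congrArg (w ≫ ·) (Sigma.hom_ext _ _ fun k => ?_)
    refine (Sigma.ι_desc_assoc _ _ _).trans ((Category.assoc _ _ _).trans ?_)
    refine Eq.trans ?_ (Sigma.ι_desc_assoc x' k _).symm
    refine Eq.trans ?_ (hx' k)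
    exact congrArg (e k ≫ ·) (colimit.ι_desc _ k)
  · -- generators
    have hgenk : ∀ k, ∃ p : (∐ fun _ : steps A k => gen A) ⟶ F'.obj k, Epi p := fun k => (Ms k).2
    choose p hp using hgenk
    refine IsGen.of_family (fun t => Sigma.ι (fun _ : steps A t.1 => gen A) t.2 ≫ p t.1 ≫ colimit.ι F' t.1) ⟨fun a b hab => ?_⟩
    refine colimit.hom_ext fun k => ?_
    haveI := hp k
    rw [← cancel_epi (p k)]
    refine Sigma.hom_ext _ _ fun t => ?_
    have := Sigma.ι (fun _ : bound A => gen A) ⟨k, t⟩ ≫= hab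
    rw [Sigma.ι_desc_assoc, Sigma.ι_desc_assoc] at this
    simpa only [Category.assoc] using this
  · intro h0
    have : (F.obj 0).obj.hom = 0 := (hj 0).symm.trans (by rw [h0]; exact comp_zero)
    have h1 : Abelian.image.ι (Sigma.desc fun _ : PUnit.{v + 1} => g) = 0 := this
    apply hg
    have h2 := Abelian.image.fac (Sigma.desc fun _ : PUnit.{v + 1} => g)
    rw [h1, comp_zero] at h2
    have h3 := Sigma.ι_desc (fun _ : PUnit.{v + 1} => g) PUnit.unit
    rw [← h2, comp_zero] at h3
    exact h3.symm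

end Groth.Agent.KInjRes
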