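import Groth.Agent.KInjRes.DerivedCat
import Groth.Agent.KInjRes.Products
import Mathlib.Algebra.Homology.HomotopyCategory.DegreewiseSplit

/-!
Bousfield localization at a small family of objects: the inclusion of a right orthogonal of a small family of
objects in the derived category of a Grothendieck abelian category has a left adjoint.
-/

universe w v u

open CategoryTheory Limits HomologicalComplex
open CochainComplex.HomComplex CochainComplex.mappingCone ZeroObject

namespace Groth.Agent.KInjRes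

variable {A : Type u} [Category.{v} A] [Abelian A] [IsGrothendieckAbelian.{v} A]

section gen

variable {ι : Type v} (P : ι → CochainComplex A ℤ)

/-- labels -/
abbrev OrthIdx : Type _ := GenIdx A ⊕ (ι × ℤ)

/-- sources -/
noncomputable def orthSrc : OrthIdx (A := A) (ι := ι) → CochainComplex A ℤ
  | Sum.inl i => genSrc i
  | Sum.inr p => (P p.1)⟦p.2⟧

/-- targets -/
noncomputable def orthTgt : OrthIdx (A := A) (ι := ι) → CochainComplex A ℤ
  | Sum.inl i => genTgt i
  | Sum.inr p => CochainComplex.mappingCone (𝟙 ((P p.1)⟦p.2⟧))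

/-- generating maps -/
noncomputable def orthMap : ∀ i : OrthIdx (A := A) (ι := ι), orthSrc P i ⟶ orthTgt P i
  | Sum.inl i => genMap i
  | Sum.inr p => CochainComplex.mappingCone.inr (𝟙 ((P p.1)⟦p.2⟧))

/-- the generating maps as a class -/
def orthGen : MorphismProperty (CochainComplex A ℤ) := MorphismProperty.ofHoms (orthMap P)

theorem orthGen_le : orthGen P ≤ MorphismProperty.monomorphisms (CochainComplex A ℤ) := by
  rintro X Y f ⟨i⟩
  match i with
  | Sum.inl i => exact (genTriv_le (genMap i) ⟨i⟩).1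
  | Sum.inr p => exact inferInstanceAs (Mono (CochainComplex.mappingCone.inr _))

instance : MorphismProperty.IsSmall.{v} (orthGen P) := MorphismProperty.isSmall_ofHoms _

open MorphismProperty in
instance : HasSmallObjectArgument.{v} (orthGen P) := by
  obtain ⟨κ, hκ', hκ⟩ := HasCardinalLT.exists_regular_cardinal.{v}
    (Σ i : OrthIdx (A := A) (ι := ι), Subobject (orthSrc P i))
  have : Fact κ.IsRegular := ⟨hκ'⟩
  have : Nonempty κ.ord.ToType := by simpa using hκ'.ne_zero
  have := WellFoundedLT.toOrderBot κ.ord.ToType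
  exact ⟨κ, inferInstance, inferInstance,
    { preservesColimit {S T X Y} i hi f hf := by
        let hf' : (monomorphisms (CochainComplex A ℤ)).TransfiniteCompositionOfShape κ.ord.ToType f :=
          { toTransfiniteCompositionOfShape := hf.toTransfiniteCompositionOfShape
            map_mem j hj := by
              have := (hf.attachCells j hj).pushouts_coproducts
              simp only [ofHoms_homFamily] at this
              refine (?_ : _ ≤ monomorphisms _) _ this
              simp only [pushouts_le_iff, coproducts_le_iff]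
              exact orthGen_le P }
        have (j j' : κ.ord.ToType) (φ : j ⟶ j') : Mono (hf'.F.map φ) := hf'.mem_map φ
        apply IsGrothendieckAbelian.preservesColimit_coyoneda_obj_of_mono (Y := hf'.F) (κ := κ)
        obtain ⟨k⟩ := hi
        exact hκ.of_injective (fun s => (⟨k, s⟩ : Σ i : OrthIdx (A := A) (ι := ι), Subobject (orthSrc P i)))
          (fun s t h => eq_of_heq (Sigma.mk.inj_iff.1 h).2) }⟩

/-- extension property -/
def Fibrant (Z : CochainComplex A ℤ) : Prop :=
  ∀ (i : OrthIdx (A := A) (ι := ι)) (g : orthSrc P i ⟶ Z), ∃ e, orthMap P i ≫ e = g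

variable {P} {Z : CochainComplex A ℤ}

theorem Fibrant.injective (h : Fibrant P Z) (n : ℤ) : Injective (Z.X n) :=
  injective_of_fibrant (fun i g => h (Sum.inl i) g) n

theorem Fibrant.isKInjective (h : Fibrant P Z) : Z.IsKInjective :=
  isKInjective_of_fibrant fun i g => h (Sum.inl i) g

variable [HasDerivedCategory.{w} A]

/-- no maps from the shifts of the family -/
def OrthTo (P : ι → CochainComplex A ℤ) (Y : DerivedCategory A) : Prop :=
  ∀ (t : ι) (m : ℤ), Subsingleton ((DerivedCategory.Q.obj (P t))⟦m⟧ ⟶ Y)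

theorem orthTo_iff_Q (Y : DerivedCategory A) :
    OrthTo P Y ↔ ∀ (t : ι) (m : ℤ), Subsingleton (DerivedCategory.Q.obj ((P t)⟦m⟧) ⟶ Y) :=
  forall_congr' fun t => forall_congr' fun m =>
    ⟨fun h => haveI : Subsingleton ((shiftFunctor (DerivedCategory A) m).obj (DerivedCategory.Q.obj (P t)) ⟶ Y) := h
      ⟨fun a b => (cancel_epi (((DerivedCategory.Q (C := A)).commShiftIso m).inv.app (P t))).1 (h.elim _ _)⟩,
     fun h => ⟨fun a b => (cancel_epi (((DerivedCategory.Q (C := A)).commShiftIso m).hom.app (P t))).1 (h.elim _ _)⟩⟩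

theorem Fibrant.orthTo (h : Fibrant P Z) : OrthTo P (DerivedCategory.Q.obj Z) := by
  refine (orthTo_iff_Q _).2 fun t m => ⟨fun a b => ?_⟩
  haveI := h.isKInjective
  have h0 : ∀ φ : DerivedCategory.Q.obj ((P t)⟦m⟧) ⟶ DerivedCategory.Q.obj Z, φ = 0 := fun φ => by
    obtain ⟨g, rfl⟩ := (Q_map_kInjective ((P t)⟦m⟧) Z).1 φ
    obtain ⟨e, he⟩ := h (Sum.inr (t, m)) g
    change CochainComplex.mappingCone.inr (𝟙 ((P t)⟦m⟧)) ≫ e = g at he
    rw [← he, Functor.map_comp, (isZero_Q_of_acyclic _ (acyclic_cone_id ((P t)⟦m⟧))).eq_of_tgt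
      (DerivedCategory.Q.map (CochainComplex.mappingCone.inr (𝟙 ((P t)⟦m⟧)))) 0, zero_comp]
  rw [h0 a, h0 b]

theorem exists_ext_of_homotopy {X : CochainComplex A ℤ} (g : X ⟶ Z) (H : Homotopy g 0) :
    ∃ e, CochainComplex.mappingCone.inr (𝟙 X) ≫ e = g := by
  obtain ⟨k, hk⟩ := Cochain.equivHomotopy g 0 H
  refine ⟨CochainComplex.mappingCone.desc (𝟙 X) k g ?_, CochainComplex.mappingCone.inr_desc _ _ _ _⟩
  rw [Category.id_comp, hk, Cochain.ofHom_zero, add_zero]

theorem fibrant_of_orthTo [Z.IsKInjective] (hinj : ∀ n, Injective (Z.X n))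
    (h : OrthTo P (DerivedCategory.Q.obj Z)) : Fibrant P Z := by
  rintro ((⟨n, S⟩ | K) | ⟨t, m⟩) g
  · change disc n (S : A) ⟶ Z at g
    haveI := hinj n
    obtain ⟨a, rfl⟩ : ∃ a, discHom a = g := ⟨_, Equiv.symm_apply_apply _ g⟩
    exact ⟨discHom (Injective.factorThru a S.arrow), (discMap_discHom _ _).trans (by rw [Injective.comp_factorThru])⟩
  · exact exists_ext_of_homotopy _ (CochainComplex.IsKInjective.homotopyZero g K.2)
  · change ((P t)⟦m⟧) ⟶ Z at g
    exact exists_ext_of_homotopy g ((Q_map_kInjective _ _).2 g 0 (((orthTo_iff_Q _).1 h t m).elim _ _)).some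

variable (P) in
/-- every complex maps to a fibrant one with the left lifting property -/
theorem exists_loc (M : CochainComplex A ℤ) :
    ∃ (I : CochainComplex A ℤ) (f : M ⟶ I), (orthGen P).rlp.llp f ∧ Fibrant P I := by
  let F := (MorphismProperty.functorialFactorizationData (orthGen P).rlp.llp (orthGen P).rlp).factorizationData
    (0 : M ⟶ 0)
  refine ⟨F.Z, F.i, F.hi, fun i g => ?_⟩
  haveI := F.hp (orthMap P i) ⟨i⟩
  have sq : CommSq g (orthMap P i) F.p 0 := ⟨(isZero_zero _).eq_of_tgt _ _⟩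
  exact ⟨sq.lift, sq.fac_left⟩

/-- maps out of contractible cones lift to the path object -/
theorem exists_lift_cone (Z W : CochainComplex A ℤ)
    (b : CochainComplex.mappingCone (𝟙 W) ⟶ (triangleRotateShortComplex (𝟙 Z)).X₃) :
    ∃ l, l ≫ (triangleRotateShortComplex (𝟙 Z)).g = b := by
  let S := triangleRotateShortComplex (𝟙 Z)
  let σ := triangleRotateShortComplexSplitting (𝟙 Z)
  let sec : ∀ n, S.X₃.X n ⟶ S.X₂.X n := fun n => (σ n).s
  have hσ : ∀ n, sec n ≫ S.g.f n = 𝟙 (S.X₃.X n) := fun n => (σ n).s_g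
  let α : Cochain W S.X₂ (-1) := Cochain.mk fun p q hpq => (inl (𝟙 W)).v p q hpq ≫ b.f q ≫ sec q
  let α' : Cochain W S.X₃ (-1) := (inl (𝟙 W)).comp (Cochain.ofHom b) (add_zero _)
  have hα : α.comp (Cochain.ofHom S.g) (add_zero _) = α' := by
    ext p q hpq
    simp only [α, α', Cochain.comp_zero_cochain_v, Cochain.ofHom_v, Cochain.mk_v, Category.assoc, hσ]
    rw [Category.comp_id]
  let β : W ⟶ S.X₂ := Cocycle.homOf (Cocycle.mk (δ (-1) 0 α) 1 (zero_add 1) (δ_δ _ _ _ α))
  have hβ : Cochain.ofHom β = δ (-1) 0 α := Cocycle.cochain_ofHom_homOf_eq_coe _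
  refine ⟨desc (𝟙 W) α β (by rw [Category.id_comp, hβ]), ?_⟩
  have hb : β ≫ S.g = inr (𝟙 W) ≫ b := by
    apply Cochain.ofHom_injective
    rw [Cochain.ofHom_comp, hβ, ← δ_comp_ofHom, hα, δ_comp_ofHom, δ_inl, ← Cochain.ofHom_comp,
      Category.id_comp]
  ext q
  rw [ext_from_iff (𝟙 W) (q + 1) q rfl]
  refine ⟨?_, ?_⟩
  · rw [HomologicalComplex.comp_f, inl_v_desc_f_assoc]
    simp only [α, Cochain.mk_v, Category.assoc]
    exact congrArg ((inl (𝟙 W)).v (q + 1) q (by omega) ≫ ·) ((congrArg (b.f q ≫ ·) (hσ q)).trans (Category.comp_id _))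
  · rw [HomologicalComplex.comp_f, ← HomologicalComplex.comp_f_assoc, inr_desc]
    exact congrArg (fun φ => φ.f q) hb

/-- the contractible path fibration has the right lifting property -/
theorem rlp_path (hZ : Fibrant P Z) :
    (orthGen P).rlp (triangleRotateShortComplex (𝟙 Z)).g := by
  let S := triangleRotateShortComplex (𝟙 Z)
  let σ := triangleRotateShortComplexSplitting (𝟙 Z)
  let sec : ∀ n, S.X₃.X n ⟶ S.X₂.X n := fun n => (σ n).s
  have hσ : ∀ n, sec n ≫ S.g.f n = 𝟙 (S.X₃.X n) := fun n => (σ n).s_g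
  have hS : S.ShortExact := HomologicalComplex.shortExact_of_degreewise_shortExact S fun n => (σ n).shortExact
  rintro X Y f ⟨i⟩
  refine ⟨fun {a b} sq => ?_⟩
  obtain ⟨l, hl⟩ : ∃ l : orthTgt P i ⟶ S.X₂, l ≫ S.g = b := by
    have hcone : ∀ (W : CochainComplex A ℤ) (b : CochainComplex.mappingCone (𝟙 W) ⟶ S.X₃),
        ∃ l, l ≫ S.g = b := exists_lift_cone Z
    match i with
    | Sum.inl (Sum.inl ⟨n, _⟩) =>
      change disc n (separator A) ⟶ S.X₃ at b
      obtain ⟨c, rfl⟩ : ∃ c, discHom c = b := ⟨_, Equiv.symm_apply_apply _ b⟩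
      refine ⟨discHom (c ≫ sec n),
        ((evalCompCoyonedaCorepresentableByDoubleId (rel_succ n) (succ_ne n) (separator A)).homEquiv).injective ?_⟩
      show (doubleXIso₀ (𝟙 (separator A)) (rel_succ n)).inv ≫ ((discHom (c ≫ sec n)).f n ≫ S.g.f n) =
        (doubleXIso₀ (𝟙 (separator A)) (rel_succ n)).inv ≫ (discHom c).f n
      rw [reassoc_of% (discHom_f (c ≫ sec n)), discHom_f]
      exact (congrArg (c ≫ ·) (hσ n)).trans (Category.comp_id c)
    | Sum.inl (Sum.inr _) => exact hcone _ b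
    | Sum.inr _ => exact hcone _ b
  haveI := hS.mono_f
  have h0 : (a - orthMap P i ≫ l) ≫ S.g = 0 := by
    rw [Preadditive.sub_comp, Category.assoc, hl, sq.w, sub_self]
  obtain ⟨d, hd⟩ : ∃ d : orthSrc P i ⟶ S.X₁, d ≫ S.f = a - orthMap P i ≫ l :=
    ⟨hS.exact.lift _ h0, hS.exact.lift_f _ _⟩
  obtain ⟨e, he⟩ : ∃ e : orthTgt P i ⟶ S.X₁, orthMap P i ≫ e = d := hZ i d
  exact ⟨⟨{ l := l + e ≫ S.f
            fac_left := by rw [Preadditive.comp_add, reassoc_of% he, hd, add_sub_cancel]
            fac_right := by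
              show (l + e ≫ S.f) ≫ S.g = b
              rw [Preadditive.add_comp, hl, show (e ≫ S.f) ≫ S.g = 0 from (Category.assoc _ _ _).trans
                ((congrArg (e ≫ ·) S.zero).trans comp_zero), add_zero] }⟩⟩

/-- precomposition with a map with the lifting property is bijective into orthogonal objects -/
theorem bijective_comp {M I : CochainComplex A ℤ} {f : M ⟶ I} (hf : (orthGen P).rlp.llp f)
    {Y : DerivedCategory A} (hY : OrthTo P Y) :
    Function.Bijective fun φ : DerivedCategory.Q.obj I ⟶ Y => DerivedCategory.Q.map f ≫ φ := by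
  -- a fibrant representative
  obtain ⟨W, c, hW, hc, -, hWinj⟩ := exists_kInjective_resolution (DerivedCategory.Q.objPreimage Y)
  haveI := hW
  haveI := hc
  let e : DerivedCategory.Q.obj W ≅ Y :=
    (asIso (DerivedCategory.Q.map c)).symm ≪≫ DerivedCategory.Q.objObjPreimageIso Y
  have hO : OrthTo P (DerivedCategory.Q.obj W) := fun t m =>
    ⟨fun a b => (cancel_mono e.hom).1 ((hY t m).elim _ _)⟩
  have hfib : Fibrant P W := fibrant_of_orthTo hWinj hO
  let V := W⟦(-1 : ℤ)⟧
  have hO' : OrthTo P (DerivedCategory.Q.obj V) := (orthTo_iff_Q _).2 fun t m => ⟨fun a b => by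
    obtain ⟨a', rfl⟩ := (Q_map_kInjective ((P t)⟦m⟧) V).1 a
    obtain ⟨b', rfl⟩ := (Q_map_kInjective ((P t)⟦m⟧) V).1 b
    haveI := ((orthTo_iff_Q _).1 hO t (m + 1))
    have key : ∀ x : (P t)⟦m⟧ ⟶ V, DerivedCategory.Q.map x = 0 := fun x => by
      let iV : V⟦(1 : ℤ)⟧ ≅ W := (shiftFunctorCompIsoId (CochainComplex A ℤ) (-1 : ℤ) 1 (by simp)).app W
      let iP := (shiftFunctorAdd (CochainComplex A ℤ) m 1).app (P t)
      have h0 : DerivedCategory.Q.map (iP.hom ≫ x⟦(1 : ℤ)⟧' ≫ iV.hom) = 0 := Subsingleton.elim _ _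
      rw [Functor.map_comp, Functor.map_comp] at h0
      have h0 : DerivedCategory.Q.map (x⟦(1 : ℤ)⟧') = 0 :=
        (cancel_mono (DerivedCategory.Q.map iV.hom)).1 (((cancel_epi (DerivedCategory.Q.map iP.hom)).1
          (h0.trans comp_zero.symm)).trans zero_comp.symm)
      apply (shiftFunctor (DerivedCategory A) (1 : ℤ)).map_injective
      rw [Functor.map_zero, ← cancel_epi (((DerivedCategory.Q (C := A)).commShiftIso (1 : ℤ)).hom.app ((P t)⟦m⟧)),
        comp_zero, ← Functor.comp_map, ← ((DerivedCategory.Q (C := A)).commShiftIso (1 : ℤ)).hom.naturality,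
        Functor.comp_map, h0, zero_comp]
    rw [key a', key b']⟩
  have hVinj : ∀ n, Injective (V.X n) := fun n => hWinj _
  have hfib' : Fibrant P V := fibrant_of_orthTo hVinj hO'
  let iV : V⟦(1 : ℤ)⟧ ≅ W := (shiftFunctorCompIsoId (CochainComplex A ℤ) (-1 : ℤ) 1 (by simp)).app W
  have hinj : ∀ g : I ⟶ W, DerivedCategory.Q.map (f ≫ g) = 0 → DerivedCategory.Q.map g = 0 := fun g hg => by
    let S := triangleRotateShortComplex (𝟙 V)
    let π : S.X₂ ⟶ W := S.g ≫ iV.hom
    have hπ : (orthGen P).rlp π := MorphismProperty.comp_mem _ _ _ (rlp_path hfib') (fun {X Y} i hi => inferInstance)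
    obtain ⟨H⟩ := (Q_map_kInjective M W).2 (f ≫ g) 0 (by rw [hg, Functor.map_zero])
    obtain ⟨u, hu⟩ := exists_ext_of_homotopy (f ≫ g) H
    haveI := hπ
    -- a lift of `u` to the path object
    obtain ⟨u', hu'⟩ : ∃ u' : CochainComplex.mappingCone (𝟙 M) ⟶ S.X₂, u' ≫ π = u := by
      obtain ⟨l, hl⟩ := exists_lift_cone V M (u ≫ iV.inv)
      exact ⟨l, (Category.assoc _ _ _).symm.trans ((congrArg (· ≫ iV.hom) hl).trans ((Category.assoc _ _ _).trans
        ((congrArg (u ≫ ·) iV.inv_hom_id).trans (Category.comp_id u))))⟩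
    haveI := hf π hπ
    have sq : CommSq (CochainComplex.mappingCone.inr (𝟙 M) ≫ u') f π g := ⟨by rw [Category.assoc, hu', hu]⟩
    rw [← sq.fac_right, Functor.map_comp]
    exact (congrArg (· ≫ DerivedCategory.Q.map π) ((isZero_Q_of_acyclic _ (acyclic_cone_id V)).eq_of_tgt
      (DerivedCategory.Q.map sq.lift) 0)).trans zero_comp
  refine ⟨fun φ ψ h => ?_, fun φ => ?_⟩
  · obtain ⟨a, ha⟩ := (Q_map_kInjective I W).1 (φ ≫ e.inv)
    obtain ⟨b, hb⟩ := (Q_map_kInjective I W).1 (ψ ≫ e.inv)
    have := hinj (a - b) (by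
      rw [Preadditive.comp_sub, Functor.map_sub, Functor.map_comp, Functor.map_comp, ha, hb, ← Category.assoc,
        ← Category.assoc, sub_eq_zero]
      exact congrArg (· ≫ e.inv) h)
    rw [Functor.map_sub, ha, hb, sub_eq_zero] at this
    exact (cancel_mono e.inv).1 this
  · obtain ⟨a, ha⟩ := (Q_map_kInjective M W).1 (φ ≫ e.inv)
    have hp : (orthGen P).rlp (0 : W ⟶ 0) := by
      rintro X Y g ⟨i⟩
      refine ⟨fun {x y} sq => ?_⟩
      obtain ⟨l, hl⟩ := hfib i x
      exact ⟨⟨{ l := l, fac_left := hl, fac_right := (isZero_zero _).eq_of_tgt _ _ }⟩⟩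
    haveI := hf (0 : W ⟶ 0) hp
    have sq : CommSq a f (0 : W ⟶ 0) 0 := ⟨(isZero_zero _).eq_of_tgt _ _⟩
    refine ⟨DerivedCategory.Q.map sq.lift ≫ e.hom, ?_⟩
    show DerivedCategory.Q.map f ≫ _ = φ
    rw [← Functor.map_comp_assoc, sq.fac_left, ha, Category.assoc, e.inv_hom_id, Category.comp_id]

variable (P) in
/-- the inclusion of the right orthogonal has a left adjoint -/
theorem isRightAdjoint_orthTo (R : ObjectProperty (DerivedCategory A)) (hR : ∀ Y, R Y ↔ OrthTo P Y) :
    R.ι.IsRightAdjoint := by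
  choose I f hf hI using fun M : DerivedCategory A => exists_loc P (DerivedCategory.Q.objPreimage M)
  let L : DerivedCategory A → R.FullSubcategory := fun M =>
    ⟨DerivedCategory.Q.obj (I M), (hR _).2 (hI M).orthTo⟩
  let e : ∀ (M : DerivedCategory A) (Y : R.FullSubcategory), (L M ⟶ Y) ≃ (M ⟶ Y.obj) := fun M Y =>
    R.fullyFaithfulι.homEquiv.trans ((Equiv.ofBijective _ (bijective_comp (hf M) ((hR _).1 Y.property))).trans
      (DerivedCategory.Q.objObjPreimageIso M).homFromEquiv)
  exact (Adjunction.adjunctionOfEquivLeft e (fun M Y Y' g h => by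
    show _ ≫ DerivedCategory.Q.map (f M) ≫ R.ι.map (h ≫ g) = (_ ≫ DerivedCategory.Q.map (f M) ≫ R.ι.map h) ≫ R.ι.map g
    rw [Functor.map_comp]; simp only [Category.assoc])).isRightAdjoint

end gen

/-- the form used for derived complete objects: no maps from a small family of modules into any shift -/
theorem isRightAdjoint_orth_single [HasDerivedCategory.{w} A] {ι : Type v} (X : ι → A)
    (R : ObjectProperty (DerivedCategory A))
    (hR : ∀ Y, R Y ↔ ∀ (t : ι) (n : ℤ),
      Subsingleton ((DerivedCategory.singleFunctor A 0).obj (X t) ⟶ Y⟦n⟧)) : R.ι.IsRightAdjoint := by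
  refine isRightAdjoint_orthTo (fun t => (CochainComplex.singleFunctor A 0).obj (X t)) R fun Y => (hR Y).trans ?_
  let e := fun t => (DerivedCategory.singleFunctorIsoCompQ A 0).app (X t)
  refine forall_congr' fun t => ⟨fun h m => ?_, fun h n => ?_⟩
  · let adj := (shiftEquiv (DerivedCategory A) m).toAdjunction
    haveI := h (-m)
    exact ⟨fun a b => (adj.homEquiv _ _).injective ((cancel_epi (e t).hom).1 ((h (-m)).elim _ _))⟩
  · let adj := (shiftEquiv' (DerivedCategory A) (-n) n (neg_add_cancel n)).toAdjunction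
    haveI := h (-n)
    exact ⟨fun a b => (cancel_epi (e t).inv).1 ((adj.homEquiv _ _).symm.injective ((h (-n)).elim _ _))⟩

end Groth.Agent.KInjRes
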